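import Groth.Prelude.Def_AlgSt2
import Groth.Prelude.Def_AlgSt3
import Groth.Prelude.Def_LiftSq
import Groth.Agent.Lib.FC16.Basic
import Mathlib.AlgebraicGeometry.Sites.Fpqc

/-!
# Unique filling of squares against the inclusion of a "big" full subcategory

For a functor `f : 𝒳 ⥤ᵇ 𝒴` of categories fibred in groupoids whose comma categories have terminal objects affine over
the base (`AffTerm`), and a category `ℬ` fibred in groupoids with an object `B₀` through which every object is covered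
(`Chart`), every square against `fullSub ℬ P ⟶ ℬ` can be uniquely filled in.
-/

set_option autoImplicit false
set_option backward.isDefEq.respectTransparency false
set_option backward.isDefEq.respectTransparency.types false

universe u

open CategoryTheory CategoryTheory.Limits AlgebraicGeometry

namespace Groth.Agent.ThetaLift14

variable {S : Scheme.{u}} {𝒳 𝒴 ℬ : AlgSt.Cat S}

/-! ### Generalities -/

theorem hom_ext' {𝒜 𝒞 : AlgSt.Cat S} {F G : 𝒜 ⥤ᵇ 𝒞} {α β : F ⟶ G}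
    (h : ∀ a, α.toNatTrans.app a = β.toNatTrans.app a) : α = β :=
  BasedNatTrans.homCategory.ext _ _ (NatTrans.ext (funext h))

/-- Maps out of an fpqc cover descend. -/
theorem existsUnique_desc {C B W : Over S} (π : C ⟶ B) [Flat π.left] [Surjective π.left] [QuasiCompact π.left]
    (u : C ⟶ W) (h : ∀ {V : Over S} (a b : V ⟶ C), a ≫ π = b ≫ π → a ≫ u = b ≫ u) :
    ∃ s : B ⟶ W, π ≫ s = u := by
  have hc : ∀ {Z : Scheme.{u}} (g₁ g₂ : Z ⟶ C.left), g₁ ≫ π.left = g₂ ≫ π.left → g₁ ≫ u.left = g₂ ≫ u.left :=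
    fun {Z} g₁ g₂ e => by
      let a : Over.mk (g₁ ≫ C.hom) ⟶ C := Over.homMk g₁ rfl
      let b : Over.mk (g₁ ≫ C.hom) ⟶ C := Over.homMk g₂ (by
        show g₂ ≫ C.hom = g₁ ≫ C.hom
        rw [← Over.w π, reassoc_of% e])
      exact congrArg CommaMorphism.left (h a b (Over.OverMorphism.ext e))
  let s := EffectiveEpi.desc π.left u.left hc
  have hs : π.left ≫ s = u.left := EffectiveEpi.fac π.left u.left hc
  have hS : s ≫ W.hom = B.hom := by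
    rw [← cancel_epi π.left, reassoc_of% hs, Over.w u, Over.w π]
  exact ⟨Over.homMk s hS, Over.OverMorphism.ext hs⟩

theorem eq_of_cover {C B W : Over S} (π : C ⟶ B) [Flat π.left] [Surjective π.left] [QuasiCompact π.left]
    {s t : B ⟶ W} (h : π ≫ s = π ≫ t) : s = t :=
  Over.OverMorphism.ext ((cancel_epi π.left).1 (congrArg CommaMorphism.left h))

/-! ### The hypothesis on `f` -/

/-- The data of a terminal object of the comma category of `f` at `y` (lying over `U`). -/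
structure Term (f : 𝒳 ⥤ᵇ 𝒴) (y : 𝒴.obj) (U : Over S) where
  w : 𝒳.obj
  q : 𝒳.p.obj w ⟶ U
  ν : f.obj w ⟶ y
  hν : 𝒴.p.IsHomLift q ν
  aff : IsAffineHom q.left
  uniq : ∀ (x : 𝒳.obj) (φ : f.obj x ⟶ y), ∃! θ : x ⟶ w, f.map θ ≫ ν = φ

/-- Every comma category of `f` has a terminal object which is affine over the base. -/
def AffTerm (f : 𝒳 ⥤ᵇ 𝒴) : Prop :=
  ∀ (y : 𝒴.obj) (U : Over S), 𝒴.p.obj y = U → Nonempty (Term f y U)

theorem AffTerm.faithful {f : 𝒳 ⥤ᵇ 𝒴} (hf : AffTerm f) (h𝒳 : FibCat.IsFibGrpd 𝒳.p) : f.toFunctor.Faithful where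
  map_injective {x x'} θ θ' e := by
    obtain ⟨T⟩ := hf (f.obj x') _ rfl
    obtain ⟨c, hc, -⟩ := T.uniq x' (𝟙 _)
    obtain ⟨d, -, hd⟩ := T.uniq x (f.map θ)
    have h1 : θ ≫ c = d := hd _ (by
      show f.map (θ ≫ c) ≫ T.ν = f.map θ
      rw [Functor.map_comp, Category.assoc, hc, Category.comp_id])
    have h2 : θ' ≫ c = d := hd _ (by
      show f.map (θ' ≫ c) ≫ T.ν = f.map θ
      rw [Functor.map_comp, Category.assoc, hc, Category.comp_id]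
      exact e.symm)
    have hp : 𝒳.p.map θ = 𝒳.p.map θ' := FC16.p_map_eq_of_map_eq f e
    haveI := FibCat.IsFibGrpd.isStronglyCartesian (p := 𝒳.p) c
    haveI : 𝒳.p.IsHomLift (𝒳.p.map θ) θ' := by rw [hp]; exact IsHomLift.map 𝒳.p θ'
    exact Functor.IsStronglyCartesian.ext 𝒳.p (𝒳.p.map c) c (𝒳.p.map θ) (h1.trans h2.symm)

section At

variable (f : 𝒳 ⥤ᵇ 𝒴) (bot : ℬ ⥤ᵇ 𝒴)

/-- An object of `𝒳` over an object of `ℬ`, matching its image in `𝒴`. -/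
structure At (B : ℬ.obj) where
  x : 𝒳.obj
  ι : f.obj x ⟶ bot.obj B
  hι : 𝒴.p.IsHomLift (𝟙 (ℬ.p.obj B)) ι

variable {f bot}

/-- A (necessarily unique) morphism between such objects over a morphism of `ℬ` exists. -/
def Mor {C B : ℬ.obj} (L : At f bot C) (L' : At f bot B) (m : C ⟶ B) : Prop :=
  ∃ θ : L.x ⟶ L'.x, f.map θ ≫ L'.ι = L.ι ≫ bot.map m

/-- The section of the terminal object determined by an object over `C` and `m : C ⟶ B`. -/
def Sect {C B : ℬ.obj} (T : Term f (bot.obj B) (ℬ.p.obj B)) (L : At f bot C) (m : C ⟶ B)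
    (g : ℬ.p.obj C ⟶ 𝒳.p.obj T.w) : Prop :=
  ∃ θ : L.x ⟶ T.w, f.map θ ≫ T.ν = L.ι ≫ bot.map m ∧ 𝒳.p.IsHomLift g θ

theorem At.x_p {B : ℬ.obj} (L : At f bot B) : 𝒳.p.obj L.x = ℬ.p.obj B :=
  haveI := L.hι
  (f.w_obj L.x).symm.trans (IsHomLift.domain_eq 𝒴.p (𝟙 (ℬ.p.obj B)) L.ι)

theorem bot_lift {C B : ℬ.obj} (m : C ⟶ B) : 𝒴.p.IsHomLift (ℬ.p.map m) (bot.map m) :=
  haveI : ℬ.p.IsHomLift (ℬ.p.map m) m := IsHomLift.map ℬ.p m
  BasedFunctor.preserves_isHomLift bot _ m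

theorem Mor.id {B : ℬ.obj} (L : At f bot B) : Mor L L (𝟙 B) := ⟨𝟙 _, by simp⟩

theorem Mor.comp {D C B : ℬ.obj} {L'' : At f bot D} {L : At f bot C} {L' : At f bot B} {k : D ⟶ C} {m : C ⟶ B}
    (h₁ : Mor L'' L k) (h₂ : Mor L L' m) : Mor L'' L' (k ≫ m) := by
  obtain ⟨θ, hθ⟩ := h₁
  obtain ⟨θ', hθ'⟩ := h₂
  exact ⟨θ ≫ θ', by rw [Functor.map_comp, Category.assoc, hθ', reassoc_of% hθ, Functor.map_comp]⟩

theorem isIso_ι (h𝒴 : FibCat.IsFibGrpd 𝒴.p) {B : ℬ.obj} (L : At f bot B) : IsIso L.ι :=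
  haveI := L.hι
  FC16.isIso_of_isHomLift h𝒴 (𝟙 (ℬ.p.obj B)) L.ι

theorem mor_lift (h𝒴 : FibCat.IsFibGrpd 𝒴.p) {C B : ℬ.obj} {L : At f bot C} {L' : At f bot B} {m : C ⟶ B}
    {θ : L.x ⟶ L'.x} (h : f.map θ ≫ L'.ι = L.ι ≫ bot.map m) : 𝒳.p.IsHomLift (ℬ.p.map m) θ := by
  haveI := L.hι
  haveI := L'.hι
  haveI := isIso_ι h𝒴 L'
  haveI := bot_lift (bot := bot) m
  haveI : 𝒴.p.IsHomLift (𝟙 (ℬ.p.obj B)) (inv L'.ι) := inferInstance
  have e : f.map θ = L.ι ≫ bot.map m ≫ inv L'.ι := by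
    rw [← Category.assoc, IsIso.eq_comp_inv, h]
  have h2 : 𝒴.p.IsHomLift (𝟙 _ ≫ ℬ.p.map m ≫ 𝟙 _) (L.ι ≫ bot.map m ≫ inv L'.ι) := inferInstance
  rw [Category.id_comp, Category.comp_id, ← e] at h2
  exact (BasedFunctor.isHomLift_iff f _ θ).1 h2

theorem exists_pull (h𝒳 : FibCat.IsFibGrpd 𝒳.p) (h𝒴 : FibCat.IsFibGrpd 𝒴.p) {B : ℬ.obj} (L' : At f bot B)
    {C : ℬ.obj} (m : C ⟶ B) : ∃ L : At f bot C, Mor L L' m := by
  obtain ⟨x, θ, hθ⟩ := FC16.exists_lift h𝒳 L'.x_p (ℬ.p.map m)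
  haveI := hθ
  haveI := L'.hι
  haveI := bot_lift (bot := bot) m
  haveI : 𝒴.p.IsHomLift (ℬ.p.map m) (f.map θ) := BasedFunctor.preserves_isHomLift f _ θ
  haveI h1 : 𝒴.p.IsHomLift (ℬ.p.map m) (f.map θ ≫ L'.ι) := by
    have : 𝒴.p.IsHomLift (ℬ.p.map m ≫ 𝟙 (ℬ.p.obj B)) (f.map θ ≫ L'.ι) := inferInstance
    rwa [Category.comp_id] at this
  haveI := FC16.isStronglyCartesian h𝒴 (ℬ.p.map m) (bot.map m)
  let ι : f.obj x ⟶ bot.obj C := Functor.IsStronglyCartesian.map 𝒴.p (ℬ.p.map m) (bot.map m)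
    (g := 𝟙 (ℬ.p.obj C)) (f' := ℬ.p.map m) (Category.id_comp _).symm (f.map θ ≫ L'.ι)
  have hι : ι ≫ bot.map m = f.map θ ≫ L'.ι := Functor.IsStronglyCartesian.fac _ _ _ _ _
  exact ⟨⟨x, ι, inferInstance⟩, θ, hι.symm⟩

theorem Mor.factor (h𝒳 : FibCat.IsFibGrpd 𝒳.p) (h𝒴 : FibCat.IsFibGrpd 𝒴.p) {D C B : ℬ.obj} {L'' : At f bot D}
    {L : At f bot C} {L' : At f bot B} {k : D ⟶ C} {m : C ⟶ B}
    (h₁ : Mor L'' L' (k ≫ m)) (h₂ : Mor L L' m) : Mor L'' L k := by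
  obtain ⟨θ'', e''⟩ := h₁
  obtain ⟨θ', e'⟩ := h₂
  haveI := mor_lift h𝒴 e''
  haveI := mor_lift h𝒴 e'
  haveI := FC16.isStronglyCartesian h𝒳 (ℬ.p.map m) θ'
  let χ := Functor.IsStronglyCartesian.map 𝒳.p (ℬ.p.map m) θ' (g := ℬ.p.map k) (f' := ℬ.p.map (k ≫ m))
    (ℬ.p.map_comp k m) θ''
  have hχ : χ ≫ θ' = θ'' := Functor.IsStronglyCartesian.fac _ _ _ _ _
  refine ⟨χ, ?_⟩
  haveI := bot_lift (bot := bot) m
  haveI := bot_lift (bot := bot) k
  haveI := FC16.isStronglyCartesian h𝒴 (ℬ.p.map m) (bot.map m)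
  haveI := L''.hι
  haveI := L.hι
  haveI : 𝒴.p.IsHomLift (ℬ.p.map k) (f.map χ) := BasedFunctor.preserves_isHomLift f _ χ
  haveI : 𝒴.p.IsHomLift (ℬ.p.map k) (f.map χ ≫ L.ι) := by
    have : 𝒴.p.IsHomLift (ℬ.p.map k ≫ 𝟙 (ℬ.p.obj C)) (f.map χ ≫ L.ι) := inferInstance
    rwa [Category.comp_id] at this
  haveI : 𝒴.p.IsHomLift (ℬ.p.map k) (L''.ι ≫ bot.map k) := by
    have : 𝒴.p.IsHomLift (𝟙 (ℬ.p.obj D) ≫ ℬ.p.map k) (L''.ι ≫ bot.map k) := inferInstance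
    rwa [Category.id_comp] at this
  refine Functor.IsStronglyCartesian.ext 𝒴.p (ℬ.p.map m) (bot.map m) (ℬ.p.map k) ?_
  rw [Category.assoc, Category.assoc, ← e', ← Category.assoc, ← Functor.map_comp, hχ, e'', Functor.map_comp]

/-! ### Sections -/

theorem exists_sect {C B : ℬ.obj} (T : Term f (bot.obj B) (ℬ.p.obj B)) (L : At f bot C) (m : C ⟶ B) :
    ∃ g, Sect T L m g := by
  obtain ⟨θ, hθ, -⟩ := T.uniq L.x (L.ι ≫ bot.map m)
  refine ⟨eqToHom L.x_p.symm ≫ 𝒳.p.map θ, θ, hθ, ?_⟩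
  exact IsHomLift.of_fac' 𝒳.p _ θ L.x_p rfl (by simp)

theorem sect_unique {C B : ℬ.obj} {T : Term f (bot.obj B) (ℬ.p.obj B)} {L : At f bot C} {m : C ⟶ B}
    {g g' : ℬ.p.obj C ⟶ 𝒳.p.obj T.w} (h : Sect T L m g) (h' : Sect T L m g') : g = g' := by
  obtain ⟨θ, e, hθ⟩ := h
  obtain ⟨θ', e', hθ'⟩ := h'
  obtain rfl := (T.uniq L.x _).unique e e'
  exact @FC16.isHomLift_unique _ _ _ _ 𝒳.p _ _ g g' _ _ θ hθ hθ'

theorem Sect.w {C B : ℬ.obj} {T : Term f (bot.obj B) (ℬ.p.obj B)} {L : At f bot C} {m : C ⟶ B}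
    {g : ℬ.p.obj C ⟶ 𝒳.p.obj T.w} (h : Sect T L m g) : g ≫ T.q = ℬ.p.map m := by
  obtain ⟨θ, e, hθ⟩ := h
  haveI := hθ
  haveI := T.hν
  haveI := L.hι
  haveI := bot_lift (bot := bot) m
  haveI : 𝒴.p.IsHomLift g (f.map θ) := BasedFunctor.preserves_isHomLift f _ θ
  haveI h1 : 𝒴.p.IsHomLift (g ≫ T.q) (f.map θ ≫ T.ν) := inferInstance
  rw [e] at h1
  haveI := h1
  have h2 : 𝒴.p.IsHomLift (𝟙 _ ≫ ℬ.p.map m) (L.ι ≫ bot.map m) := inferInstance
  rw [Category.id_comp] at h2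
  haveI := h2
  exact FC16.isHomLift_unique (p := 𝒴.p) _ _ (L.ι ≫ bot.map m)

theorem Sect.comp (h𝒴 : FibCat.IsFibGrpd 𝒴.p) {D C B : ℬ.obj} {T : Term f (bot.obj B) (ℬ.p.obj B)}
    {L' : At f bot D} {L : At f bot C} {k : D ⟶ C} {m : C ⟶ B} {g : ℬ.p.obj C ⟶ 𝒳.p.obj T.w}
    (h₁ : Mor L' L k) (h : Sect T L m g) : Sect T L' (k ≫ m) (ℬ.p.map k ≫ g) := by
  obtain ⟨χ, eχ⟩ := h₁
  obtain ⟨θ, e, hθ⟩ := h
  haveI := hθ
  haveI := mor_lift h𝒴 eχ
  exact ⟨χ ≫ θ, by rw [Functor.map_comp, Category.assoc, e, reassoc_of% eχ, Functor.map_comp], inferInstance⟩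

theorem mor_of_sect (h𝒳 : FibCat.IsFibGrpd 𝒳.p) {C B : ℬ.obj} {T : Term f (bot.obj B) (ℬ.p.obj B)}
    {L : At f bot C} {L' : At f bot B} {m : C ⟶ B} {g : ℬ.p.obj C ⟶ 𝒳.p.obj T.w}
    {g' : ℬ.p.obj B ⟶ 𝒳.p.obj T.w} (h : Sect T L m g) (h' : Sect T L' (𝟙 B) g') (e : g = ℬ.p.map m ≫ g') :
    Mor L L' m := by
  obtain ⟨θ, eθ, hθ⟩ := h
  obtain ⟨θ', eθ', hθ'⟩ := h'
  haveI := hθ
  haveI := hθ'
  haveI := FC16.isStronglyCartesian h𝒳 g' θ'
  let χ := Functor.IsStronglyCartesian.map 𝒳.p g' θ' (g := ℬ.p.map m) (f' := g) e θ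
  have hχ : χ ≫ θ' = θ := Functor.IsStronglyCartesian.fac _ _ _ _ _
  refine ⟨χ, ?_⟩
  have h1 : f.map θ' ≫ T.ν = L'.ι := eθ'.trans (by simp)
  rw [← h1, ← Category.assoc, ← Functor.map_comp, hχ, eθ]

theorem exists_at (h𝒳 : FibCat.IsFibGrpd 𝒳.p) {B : ℬ.obj} (T : Term f (bot.obj B) (ℬ.p.obj B))
    (s : ℬ.p.obj B ⟶ 𝒳.p.obj T.w) (hs : s ≫ T.q = 𝟙 _) : ∃ L : At f bot B, Sect T L (𝟙 B) s := by
  obtain ⟨x, θ, hθ⟩ := FC16.exists_lift h𝒳 rfl s
  haveI := hθ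
  haveI := T.hν
  haveI : 𝒴.p.IsHomLift s (f.map θ) := BasedFunctor.preserves_isHomLift f _ θ
  have h1 : 𝒴.p.IsHomLift (s ≫ T.q) (f.map θ ≫ T.ν) := inferInstance
  rw [hs] at h1
  exact ⟨⟨x, f.map θ ≫ T.ν, h1⟩, θ, by simp, hθ⟩

theorem mor_of_cover (h𝒳 : FibCat.IsFibGrpd 𝒳.p) (h𝒴 : FibCat.IsFibGrpd 𝒴.p) (hf : AffTerm f)
    {C B B' : ℬ.obj} (π : C ⟶ B) [Flat (ℬ.p.map π).left] [Surjective (ℬ.p.map π).left]
    [QuasiCompact (ℬ.p.map π).left] {L : At f bot B} {L' : At f bot B'} {LC : At f bot C} {m : B ⟶ B'}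
    (h₁ : Mor LC L π) (h₂ : Mor LC L' (π ≫ m)) : Mor L L' m := by
  obtain ⟨T⟩ := hf (bot.obj B') (ℬ.p.obj B') (bot.w_obj B')
  obtain ⟨g, hg⟩ := exists_sect T L m
  obtain ⟨g', hg'⟩ := exists_sect T L' (𝟙 B')
  refine mor_of_sect h𝒳 hg hg' (eq_of_cover (ℬ.p.map π) ?_)
  have a := hg.comp h𝒴 h₁
  have b := hg'.comp h𝒴 h₂
  rw [Category.comp_id] at b
  rw [sect_unique a b, Functor.map_comp, Category.assoc]

end At

/-! ### The chart -/

/-- `B₀` covers `ℬ`, and `P` is big enough at `B₀` and at every pair of morphisms to `B₀`. -/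
structure Chart (ℬ : AlgSt.Cat S) (P : ObjectProperty ℬ.obj) (B₀ : ℬ.obj) : Prop where
  fib : FibCat.IsFibGrpd ℬ.p
  closed : ∀ {C B : ℬ.obj} (_ : C ⟶ B), P B → P C
  cover : ∀ B : ℬ.obj, ∃ (C : ℬ.obj) (π : C ⟶ B) (_ : C ⟶ B₀),
    Flat (ℬ.p.map π).left ∧ Surjective (ℬ.p.map π).left ∧ QuasiCompact (ℬ.p.map π).left
  ext : ∀ {W : Over S} (q : W ⟶ ℬ.p.obj B₀), IsAffineHom q.left →
    ∀ (τ : ∀ a : ℬ.obj, P a → (a ⟶ B₀) → (ℬ.p.obj a ⟶ W)),
    (∀ (a : ℬ.obj) (ha : P a) (m : a ⟶ B₀), τ a ha m ≫ q = ℬ.p.map m) →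
    (∀ (a' a : ℬ.obj) (ha' : P a') (ha : P a) (k : a' ⟶ a) (m : a ⟶ B₀),
      τ a' ha' (k ≫ m) = ℬ.p.map k ≫ τ a ha m) →
    ∃! σ : ℬ.p.obj B₀ ⟶ W, σ ≫ q = 𝟙 _ ∧ ∀ (a : ℬ.obj) (ha : P a) (m : a ⟶ B₀), ℬ.p.map m ≫ σ = τ a ha m
  sep : ∀ {C : ℬ.obj} (m m' : C ⟶ B₀), ∃ (C₁ : ℬ.obj) (k : C ⟶ C₁) (n n' : C₁ ⟶ B₀), k ≫ n = m ∧ k ≫ n' = m' ∧
    ∀ {W : Over S} (q : W ⟶ ℬ.p.obj C₁), IsAffineHom q.left → ∀ g g' : ℬ.p.obj C₁ ⟶ W,
      g ≫ q = 𝟙 _ → g' ≫ q = 𝟙 _ →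
      (∀ (a : ℬ.obj), P a → ∀ i : a ⟶ C₁, ℬ.p.map i ≫ g = ℬ.p.map i ≫ g') → g = g'

variable {P : ObjectProperty ℬ.obj} {B₀ : ℬ.obj} {f : 𝒳 ⥤ᵇ 𝒴}

section Fill

variable (h𝒳 : FibCat.IsFibGrpd 𝒳.p) (h𝒴 : FibCat.IsFibGrpd 𝒴.p) (hf : AffTerm f) (hc : Chart ℬ P B₀)
  (sq : LiftSq.Sq (AlgSt.subIncl ℬ P) f)

/-- the object given by the top side -/
def topAt (a : ℬ.obj) (ha : P a) : At f sq.bot a where
  x := sq.top.obj ⟨a, ha⟩
  ι := sq.iso.inv.toNatTrans.app ⟨a, ha⟩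
  hι := sq.iso.inv.isHomLift' ⟨a, ha⟩

theorem topAt_mor {a' a : ℬ.obj} (ha' : P a') (ha : P a) (k : a' ⟶ a) :
    Mor (topAt sq a' ha') (topAt sq a ha) k :=
  let k' : (⟨a', ha'⟩ : (AlgSt.fullSub ℬ P).obj) ⟶ ⟨a, ha⟩ := ObjectProperty.homMk k
  ⟨sq.top.map k', sq.iso.inv.toNatTrans.naturality k'⟩

include h𝒳 h𝒴 hf hc

theorem exists_fill₀ : ∃ L₀ : At f sq.bot B₀,
    ∀ (a : ℬ.obj) (ha : P a) (m : a ⟶ B₀), Mor (topAt sq a ha) L₀ m := by
  obtain ⟨T⟩ := hf (sq.bot.obj B₀) (ℬ.p.obj B₀) (sq.bot.w_obj B₀)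
  choose τ hτ using fun a ha (m : a ⟶ B₀) => exists_sect T (topAt sq a ha) m
  obtain ⟨σ, ⟨hσ, hσ'⟩, -⟩ := hc.ext T.q T.aff τ (fun a ha m => (hτ a ha m).w)
    (fun a' a ha' ha k m => sect_unique (hτ a' ha' (k ≫ m)) ((hτ a ha m).comp h𝒴 (topAt_mor sq ha' ha k)))
  obtain ⟨L₀, hL₀⟩ := exists_at h𝒳 T σ hσ
  exact ⟨L₀, fun a ha m => mor_of_sect h𝒳 (hτ a ha m) hL₀ (hσ' a ha m).symm⟩

variable (L₀ : At f sq.bot B₀) (hL₀ : ∀ (a : ℬ.obj) (ha : P a) (m : a ⟶ B₀), Mor (topAt sq a ha) L₀ m)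

include hL₀

theorem sep_all {C : ℬ.obj} {L : At f sq.bot C} {m : C ⟶ B₀} (h : Mor L L₀ m) (m' : C ⟶ B₀) : Mor L L₀ m' := by
  obtain ⟨C₁, k, n, n', hn, hn', hsep⟩ := hc.sep m m'
  obtain ⟨L₁, h₁⟩ := exists_pull h𝒳 h𝒴 L₀ n
  obtain ⟨L₁', h₁'⟩ := exists_pull h𝒳 h𝒴 L₀ n'
  obtain ⟨T⟩ := hf (sq.bot.obj C₁) (ℬ.p.obj C₁) (sq.bot.w_obj C₁)
  obtain ⟨g, hg⟩ := exists_sect T L₁ (𝟙 C₁)
  obtain ⟨g', hg'⟩ := exists_sect T L₁' (𝟙 C₁)
  have e : g = g' := hsep T.q T.aff g g' (by simpa using hg.w) (by simpa using hg'.w) fun a ha i =>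
    sect_unique (hg.comp h𝒴 ((hL₀ a ha (i ≫ n)).factor h𝒳 h𝒴 h₁))
      (hg'.comp h𝒴 ((hL₀ a ha (i ≫ n')).factor h𝒳 h𝒴 h₁'))
  have h₁₁ : Mor L₁ L₁' (𝟙 C₁) := mor_of_sect h𝒳 hg hg' (by simp [e])
  have hk : Mor L L₁ k := Mor.factor h𝒳 h𝒴 (by rwa [hn]) h₁
  have := hk.comp (h₁₁.comp h₁')
  rwa [Category.id_comp, hn'] at this

theorem exists_fill (B : ℬ.obj) : ∃ L : At f sq.bot B,
    ∀ (D : ℬ.obj) (k : D ⟶ B) (k₀ : D ⟶ B₀) (L' : At f sq.bot D), Mor L' L₀ k₀ → Mor L' L k := by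
  obtain ⟨T⟩ := hf (sq.bot.obj B) (ℬ.p.obj B) (sq.bot.w_obj B)
  obtain ⟨C, π, π₀, h1, h2, h3⟩ := hc.cover B
  obtain ⟨LC, hLC⟩ := exists_pull h𝒳 h𝒴 L₀ π₀
  obtain ⟨u, hu⟩ := exists_sect T LC π
  have hcompat : ∀ {V : Over S} (a b : V ⟶ ℬ.p.obj C), a ≫ ℬ.p.map π = b ≫ ℬ.p.map π → a ≫ u = b ≫ u := by
    intro V a b hab
    obtain ⟨D, ka, hka⟩ := FC16.exists_lift hc.fib rfl a
    obtain rfl : ℬ.p.obj D = V := IsHomLift.domain_eq ℬ.p a ka
    haveI := hka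
    have ea : ℬ.p.map ka = a := FC16.isHomLift_unique (p := ℬ.p) _ _ ka
    haveI := FC16.isStronglyCartesian hc.fib (ℬ.p.map π) π
    haveI : ℬ.p.IsHomLift (a ≫ ℬ.p.map π) (ka ≫ π) := inferInstance
    let kb := Functor.IsStronglyCartesian.map ℬ.p (ℬ.p.map π) π (g := b) (f' := a ≫ ℬ.p.map π) hab (ka ≫ π)
    have hkb : kb ≫ π = ka ≫ π := Functor.IsStronglyCartesian.fac _ _ _ _ _
    have eb : ℬ.p.map kb = b := FC16.isHomLift_unique (p := ℬ.p) _ _ kb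
    obtain ⟨LD, hLD⟩ := exists_pull h𝒳 h𝒴 LC ka
    have hb : Mor LD LC kb :=
      (sep_all h𝒳 h𝒴 hf hc sq L₀ hL₀ (hLD.comp hLC) (kb ≫ π₀)).factor h𝒳 h𝒴 hLC
    have h' := hu.comp h𝒴 hLD
    have h'' := hu.comp h𝒴 hb
    rw [hkb] at h''
    have := sect_unique h' h''
    rwa [ea, eb] at this
  obtain ⟨s, hs⟩ := existsUnique_desc (ℬ.p.map π) u hcompat
  have hsq : s ≫ T.q = 𝟙 _ := eq_of_cover (ℬ.p.map π) (by rw [reassoc_of% hs, hu.w, Category.comp_id])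
  obtain ⟨L, hL⟩ := exists_at h𝒳 T s hsq
  have hCL : Mor LC L π := mor_of_sect h𝒳 hu hL hs.symm
  refine ⟨L, fun D k k₀ L' hL' => ?_⟩
  let q₁ := pullback.fst (ℬ.p.map k).left (ℬ.p.map π).left
  let V : Over S := Over.mk (q₁ ≫ (ℬ.p.obj D).hom)
  let a : V ⟶ ℬ.p.obj D := Over.homMk q₁ rfl
  let b : V ⟶ ℬ.p.obj C := Over.homMk (pullback.snd (ℬ.p.map k).left (ℬ.p.map π).left) (by
    show _ = q₁ ≫ _
    rw [← Over.w (ℬ.p.map π), ← pullback.condition_assoc, Over.w])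
  have hab : a ≫ ℬ.p.map k = b ≫ ℬ.p.map π := Over.OverMorphism.ext pullback.condition
  obtain ⟨E, kE, hkE⟩ := FC16.exists_lift hc.fib rfl a
  have hE : ℬ.p.obj E = V := IsHomLift.domain_eq ℬ.p a kE
  have ea : ℬ.p.map kE = eqToHom hE ≫ a := by
    have := IsHomLift.fac' ℬ.p a kE
    simpa using this
  haveI : Flat a.left := inferInstanceAs (Flat q₁)
  haveI : Surjective a.left := inferInstanceAs (Surjective q₁)
  haveI : QuasiCompact a.left := inferInstanceAs (QuasiCompact q₁)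
  haveI : IsIso (eqToHom hE).left := inferInstanceAs (IsIso ((Over.forget S).map (eqToHom hE)))
  haveI : Flat (ℬ.p.map kE).left := by rw [ea, Over.comp_left]; infer_instance
  haveI : Surjective (ℬ.p.map kE).left := by rw [ea, Over.comp_left]; infer_instance
  haveI : QuasiCompact (ℬ.p.map kE).left := by rw [ea, Over.comp_left]; infer_instance
  haveI := FC16.isStronglyCartesian hc.fib (ℬ.p.map π) π
  haveI := hkE
  haveI : ℬ.p.IsHomLift (a ≫ ℬ.p.map k) (kE ≫ k) := inferInstance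
  let cE := Functor.IsStronglyCartesian.map ℬ.p (ℬ.p.map π) π (g := b) (f' := a ≫ ℬ.p.map k) hab (kE ≫ k)
  have hcE : cE ≫ π = kE ≫ k := Functor.IsStronglyCartesian.fac _ _ _ _ _
  obtain ⟨LE, hLE⟩ := exists_pull h𝒳 h𝒴 L' kE
  have h1' : Mor LE LC cE := (sep_all h𝒳 h𝒴 hf hc sq L₀ hL₀ (hLE.comp hL') (cE ≫ π₀)).factor h𝒳 h𝒴 hLC
  have h2' := h1'.comp hCL
  rw [hcE] at h2'
  exact mor_of_cover h𝒳 h𝒴 hf kE hLE h2'

end Fill

theorem liftsUniquely (h𝒳 : FibCat.IsFibGrpd 𝒳.p) (h𝒴 : FibCat.IsFibGrpd 𝒴.p) (hf : AffTerm f)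
    (hc : Chart ℬ P B₀) : LiftSq.LiftsUniquely (AlgSt.subIncl ℬ P) f := by
  haveI := hf.faithful h𝒳
  intro sq
  obtain ⟨L₀, hL₀⟩ := exists_fill₀ h𝒳 h𝒴 hf hc sq
  constructor
  · choose L hL using exists_fill h𝒳 h𝒴 hf hc sq L₀ hL₀
    have hm : ∀ {B' B : ℬ.obj} (m : B' ⟶ B), Mor (L B') (L B) m := by
      intro B' B m
      obtain ⟨C, π, π₀, _, _, _⟩ := hc.cover B'
      obtain ⟨LC, hLC⟩ := exists_pull h𝒳 h𝒴 L₀ π₀
      exact mor_of_cover h𝒳 h𝒴 hf π (hL _ C π π₀ LC hLC) (hL _ C (π ≫ m) π₀ LC hLC)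
    have hI : ∀ B, IsIso (L B).ι := fun B => isIso_ι h𝒴 (L B)
    choose μ hμ using fun (B' B : ℬ.obj) (m : B' ⟶ B) => hm m
    let F : ℬ.obj ⥤ 𝒳.obj :=
      { obj := fun B => (L B).x
        map := fun {B' B} m => μ B' B m
        map_id := fun B => f.toFunctor.map_injective (by
          rw [← cancel_mono (L B).ι, hμ]
          simp)
        map_comp := fun {B'' B' B} m n => f.toFunctor.map_injective (by
          rw [← cancel_mono (L B).ι, hμ, Functor.map_comp f.toFunctor, Category.assoc, hμ, reassoc_of% hμ,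
            Functor.map_comp]) }
    let fn : ℬ ⥤ᵇ 𝒳 :=
      { toFunctor := F
        w := CategoryTheory.Functor.ext (fun B => (L B).x_p) fun B' B m => by
          haveI := mor_lift h𝒴 (hμ B' B m)
          exact IsHomLift.fac' 𝒳.p (ℬ.p.map m) (μ B' B m) }
    let ib : sq.bot ≅ BasedFunctor.comp fn f := BasedNatIso.mkNatIso
      (NatIso.ofComponents (fun B => (@asIso _ _ _ _ (L B).ι (hI B)).symm) fun {B' B} m => by
        show sq.bot.map m ≫ inv (L B).ι = inv (L B').ι ≫ f.map (μ B' B m)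
        rw [IsIso.comp_inv_eq, Category.assoc, IsIso.eq_inv_comp, hμ])
      (fun B => by
        show 𝒴.p.IsHomLift (𝟙 _) (inv (L B).ι)
        haveI := (L B).hι
        infer_instance)
    have ht : ∀ a : (AlgSt.fullSub ℬ P).obj, Mor (topAt sq a.obj a.property) (L a.obj) (𝟙 _) := by
      intro a
      obtain ⟨C, π, π₀, _, _, _⟩ := hc.cover a.obj
      refine mor_of_cover h𝒳 h𝒴 hf π (topAt_mor sq (hc.closed π a.property) a.property π) ?_
      rw [Category.comp_id]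
      exact hL _ C π π₀ _ (hL₀ C (hc.closed π a.property) π₀)
    choose ρ hρ using ht
    have hρi : ∀ a, IsIso (ρ a) := fun a => by
      haveI := mor_lift h𝒴 (hρ a)
      exact FC16.isIso_of_isHomLift h𝒳 (ℬ.p.map (𝟙 a.obj)) (ρ a)
    let it : BasedFunctor.comp (AlgSt.subIncl ℬ P) fn ≅ sq.top := BasedNatIso.mkNatIso
      (NatIso.ofComponents (fun a => (@asIso _ _ _ _ (ρ a) (hρi a)).symm) fun {a' a} k => by
        show μ _ _ k.hom ≫ inv (ρ a) = inv (ρ a') ≫ sq.top.map k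
        rw [IsIso.comp_inv_eq, Category.assoc, IsIso.eq_inv_comp]
        apply f.toFunctor.map_injective
        rw [← cancel_mono (L a.obj).ι, Functor.map_comp, Functor.map_comp, Category.assoc, Category.assoc,
          hμ, reassoc_of% hρ, hρ]
        refine ((congrArg (_ ≫ ·) ((congrArg (· ≫ _) (sq.bot.map_id _)).trans (Category.id_comp _))).trans ?_).trans
          (congrArg (f.map (sq.top.map k) ≫ ·) ((congrArg (_ ≫ ·) (sq.bot.map_id _)).trans (Category.comp_id _))).symm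
        exact (sq.iso.inv.toNatTrans.naturality k).symm)
      (fun a => by
        show 𝒳.p.IsHomLift (𝟙 _) (inv (ρ a))
        haveI := mor_lift h𝒴 (hρ a)
        haveI : 𝒳.p.IsHomLift (𝟙 ((AlgSt.fullSub ℬ P).p.obj a)) (ρ a) := by
          show 𝒳.p.IsHomLift (𝟙 (ℬ.p.obj a.obj)) (ρ a)
          rw [← ℬ.p.map_id]; infer_instance
        infer_instance)
    refine ⟨{ fn := fn, isoTop := it, isoBot := ib, w := hom_ext' fun a => ?_ }⟩
    show inv (L a.obj).ι ≫ f.map (inv (ρ a)) = sq.iso.hom.toNatTrans.app a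
    have e := hρ a
    rw [CategoryTheory.Functor.map_id, Category.comp_id] at e
    have e' : sq.iso.hom.toNatTrans.app a ≫ sq.iso.inv.toNatTrans.app a = 𝟙 _ :=
      congrArg (fun t => t.toNatTrans.app a) sq.iso.hom_inv_id
    rw [Functor.map_inv, IsIso.inv_comp_eq, ← cancel_epi (f.map (ρ a)), IsIso.hom_inv_id, ← Category.assoc, e]
    exact (congrArg (fun t => t.toNatTrans.app a) sq.iso.inv_hom_id).symm
  · intro d d'
    let At' : sq.Lift → ∀ B, At f sq.bot B := fun d B =>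
      ⟨d.fn.obj B, d.isoBot.inv.toNatTrans.app B, d.isoBot.inv.isHomLift' B⟩
    have hd : ∀ (d : sq.Lift) {B' B : ℬ.obj} (m : B' ⟶ B), Mor (At' d B') (At' d B) m := fun d B' B m =>
      ⟨d.fn.map m, d.isoBot.inv.toNatTrans.naturality m⟩
    have hdtop : ∀ (d : sq.Lift) (a : ℬ.obj) (ha : P a), Mor (topAt sq a ha) (At' d a) (𝟙 a) := by
      intro d a ha
      refine ⟨d.isoTop.inv.toNatTrans.app ⟨a, ha⟩, ?_⟩
      show f.map (d.isoTop.inv.toNatTrans.app ⟨a, ha⟩) ≫ d.isoBot.inv.toNatTrans.app a =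
        sq.iso.inv.toNatTrans.app ⟨a, ha⟩ ≫ sq.bot.map (𝟙 a)
      refine Eq.trans ?_ ((congrArg (_ ≫ ·) (sq.bot.map_id a)).trans (Category.comp_id _)).symm
      let j := AlgSt.subIncl ℬ P
      let i₂ : sq.iso.hom ≫ (BasedCategory.whiskerRight d.isoTop.inv f ≫
          BasedCategory.whiskerLeft j d.isoBot.inv) = 𝟙 _ := by
        rw [← d.w, Category.assoc, ← Category.assoc (BasedCategory.whiskerRight _ f),
          ← LiftSq.whiskerRight_comp', d.isoTop.hom_inv_id, LiftSq.whiskerRight_id', Category.id_comp,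
          ← LiftSq.whiskerLeft_comp', d.isoBot.hom_inv_id, LiftSq.whiskerLeft_id']
      exact congrArg (fun t => t.toNatTrans.app ⟨a, ha⟩) ((Iso.hom_comp_eq_id sq.iso).1 i₂)
    have h₀ : Mor (At' d B₀) (At' d' B₀) (𝟙 _) := by
      obtain ⟨T⟩ := hf (sq.bot.obj B₀) (ℬ.p.obj B₀) (sq.bot.w_obj B₀)
      choose τ hτ using fun a ha (m : a ⟶ B₀) => exists_sect T (topAt sq a ha) m
      obtain ⟨σ, -, hσu⟩ := hc.ext T.q T.aff τ (fun a ha m => (hτ a ha m).w)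
        (fun a' a ha' ha k m => sect_unique (hτ a' ha' (k ≫ m)) ((hτ a ha m).comp h𝒴 (topAt_mor sq ha' ha k)))
      obtain ⟨g, hg⟩ := exists_sect T (At' d B₀) (𝟙 _)
      obtain ⟨g', hg'⟩ := exists_sect T (At' d' B₀) (𝟙 _)
      have key : ∀ (d : sq.Lift) g, Sect T (At' d B₀) (𝟙 _) g → g = σ := fun d g hg =>
        hσu g ⟨by simpa using hg.w, fun a ha m => by
          have h1 := (hdtop d a ha).comp (hd d m)
          rw [Category.id_comp] at h1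
          have h2 := hg.comp h𝒴 h1
          rw [Category.comp_id] at h2
          exact (sect_unique (hτ a ha m) h2).symm⟩
      exact mor_of_sect h𝒳 hg hg' (by rw [key d g hg, key d' g' hg']; simp)
    have hall : ∀ B, Mor (At' d B) (At' d' B) (𝟙 B) := by
      intro B
      obtain ⟨C, π, π₀, _, _, _⟩ := hc.cover B
      have h1 : Mor (At' d C) (At' d' B₀) ((𝟙 C) ≫ π₀) := by
        have := (hd d π₀).comp h₀
        rwa [Category.comp_id, ← Category.id_comp π₀] at this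
      have h2 := (h1.factor h𝒳 h𝒴 (hd d' π₀)).comp (hd d' π)
      rw [Category.id_comp, ← Category.comp_id π] at h2
      exact mor_of_cover h𝒳 h𝒴 hf π (hd d π) h2
    choose χ hχ using hall
    have hχ' : ∀ B, d.isoBot.hom.toNatTrans.app B ≫ f.map (χ B) = d'.isoBot.hom.toNatTrans.app B := by
      intro B
      have e := hχ B
      rw [CategoryTheory.Functor.map_id, Category.comp_id] at e
      change f.map (χ B) ≫ d'.isoBot.inv.toNatTrans.app B = d.isoBot.inv.toNatTrans.app B at e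
      have a1 : d.isoBot.hom.toNatTrans.app B ≫ d.isoBot.inv.toNatTrans.app B = 𝟙 _ :=
        congrArg (fun t => t.toNatTrans.app B) d.isoBot.hom_inv_id
      have a2 : d'.isoBot.inv.toNatTrans.app B ≫ d'.isoBot.hom.toNatTrans.app B = 𝟙 _ :=
        congrArg (fun t => t.toNatTrans.app B) d'.isoBot.inv_hom_id
      calc d.isoBot.hom.toNatTrans.app B ≫ f.map (χ B)
          = d.isoBot.hom.toNatTrans.app B ≫ (f.map (χ B) ≫ d'.isoBot.inv.toNatTrans.app B) ≫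
              d'.isoBot.hom.toNatTrans.app B := by
            rw [Category.assoc, a2]; exact congrArg (_ ≫ ·) (Category.comp_id _).symm
        _ = d'.isoBot.hom.toNatTrans.app B := by rw [e, reassoc_of% a1]
    let η : d.fn ⟶ d'.fn :=
      { app := χ
        naturality := fun B' B m => f.toFunctor.map_injective (by
          have hcancel : ∀ {Z} (u v : f.obj (d.fn.obj B') ⟶ Z),
              d.isoBot.hom.toNatTrans.app B' ≫ u = d.isoBot.hom.toNatTrans.app B' ≫ v → u = v := fun u v huv => by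
            have a1 : d.isoBot.inv.toNatTrans.app B' ≫ d.isoBot.hom.toNatTrans.app B' = 𝟙 _ :=
              congrArg (fun t => t.toNatTrans.app B') d.isoBot.inv_hom_id
            have := congrArg (d.isoBot.inv.toNatTrans.app B' ≫ ·) huv
            simp only [reassoc_of% a1] at this
            exact this
          refine hcancel _ _ ?_
          rw [Functor.map_comp, Functor.map_comp, reassoc_of% hχ']
          have n1 := d.isoBot.hom.toNatTrans.naturality m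
          have n2 := d'.isoBot.hom.toNatTrans.naturality m
          refine Eq.trans ?_ n2
          rw [← hχ' B]
          exact ((Category.assoc _ _ _).symm.trans (congrArg (· ≫ f.map (χ B)) n1.symm)).trans (Category.assoc _ _ _))
        isHomLift' := fun B => by
          haveI := mor_lift h𝒴 (hχ B)
          rw [← ℬ.p.map_id]
          infer_instance }
    let θ : d ⟶ d' :=
      { hom := η
        w_top := hom_ext' fun a => f.toFunctor.map_injective (by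
          show f.map (χ a.obj ≫ d'.isoTop.hom.toNatTrans.app a) = f.map (d.isoTop.hom.toNatTrans.app a)
          have w1 := congrArg (fun t => t.toNatTrans.app a) d.w
          have w2 := congrArg (fun t => t.toNatTrans.app a) d'.w
          change d.isoBot.hom.toNatTrans.app a.obj ≫ f.map (d.isoTop.hom.toNatTrans.app a) = _ at w1
          change d'.isoBot.hom.toNatTrans.app a.obj ≫ f.map (d'.isoTop.hom.toNatTrans.app a) = _ at w2
          have a1 : d.isoBot.inv.toNatTrans.app a.obj ≫ d.isoBot.hom.toNatTrans.app a.obj = 𝟙 _ :=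
            congrArg (fun t => t.toNatTrans.app a.obj) d.isoBot.inv_hom_id
          have := congrArg (d.isoBot.inv.toNatTrans.app a.obj ≫ ·) (w1.trans w2.symm)
          rw [← hχ' a.obj] at this
          simp only [Category.assoc, reassoc_of% a1] at this
          rw [Functor.map_comp]
          exact this.symm)
        w_bot := hom_ext' hχ' }
    refine ⟨{ default := θ, uniq := fun θ' => ?_ }⟩
    refine LiftSq.Sq.Lift.hom_ext (hom_ext' fun B => f.toFunctor.map_injective ?_)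
    have e1 : d.isoBot.hom.toNatTrans.app B ≫ f.map (θ'.hom.toNatTrans.app B) = d'.isoBot.hom.toNatTrans.app B :=
      congrArg (fun t => t.toNatTrans.app B) θ'.w_bot
    have a1 : d.isoBot.inv.toNatTrans.app B ≫ d.isoBot.hom.toNatTrans.app B = 𝟙 _ :=
      congrArg (fun t => t.toNatTrans.app B) d.isoBot.inv_hom_id
    have := congrArg (d.isoBot.inv.toNatTrans.app B ≫ ·) (e1.trans (hχ' B).symm)
    simp only [reassoc_of% a1] at this
    exact this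

end Groth.Agent.ThetaLift14
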