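import Groth.Agent.Lib.ThetaLift14.Abstract
import Groth.Agent.Lib.FC16.Fp
import Groth.Agent.Lib.FC16.Yoneda

/-!
# Affine functors have affine terminal objects in their comma categories
-/

set_option autoImplicit false
set_option backward.isDefEq.respectTransparency false
set_option backward.isDefEq.respectTransparency.types false

universe u

open CategoryTheory CategoryTheory.Limits AlgebraicGeometry Opposite

namespace Groth.Agent.ThetaLift14

variable {S : Scheme.{u}} {𝒳 𝒴 : AlgSt.Cat S}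

theorem existsUnique_to_terminal {F : AlgSp.Sp S} {W : Over S} (κ : (AlgSp.yon S).obj W ⟶ F) [IsIso κ]
    (a : (AlgSt.ofSp F).obj) :
    ∃! ψ : a ⟶ (⟨W, (AlgSp.J S).uliftYonedaEquiv κ⟩ : (AlgSt.ofSp F).obj), True := by
  obtain ⟨g, hg⟩ := (AlgSp.yon S).map_surjective (((AlgSp.J S).uliftYonedaEquiv).symm a.sec ≫ inv κ)
  have key : ∀ g' : a.base ⟶ W, F.obj.map g'.op ((AlgSp.J S).uliftYonedaEquiv κ) =
      (AlgSp.J S).uliftYonedaEquiv ((AlgSp.yon S).map g' ≫ κ) := fun g' =>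
    GrothendieckTopology.uliftYonedaEquiv_naturality _ _ g'
  refine ⟨⟨g, ?_⟩, trivial, fun ψ _ => Stk.EltObj.hom_ext ?_⟩
  · show F.obj.map g.op ((AlgSp.J S).uliftYonedaEquiv κ) = a.sec
    rw [key, hg, Category.assoc, IsIso.inv_hom_id, Category.comp_id, Equiv.apply_symm_apply]
  · show ψ.hom = g
    apply (AlgSp.yon S).map_injective
    rw [hg, IsIso.eq_comp_inv, ← (AlgSp.J S).uliftYonedaEquiv.injective.eq_iff, ← key,
      Equiv.apply_symm_apply]
    exact ψ.map_sec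

theorem exists_term_of_rep (h𝒴 : FibCat.IsFibGrpd 𝒴.p) {f : 𝒳 ⥤ᵇ 𝒴} {P : MorphismProperty Scheme.{u}}
    [P.RespectsIso] (hP' : P ≤ @IsAffineHom) (hf : AlgSt.RepByAlgSpWith (AlgSp.RepWith P) f)
    (y : 𝒴.obj) (U : Over S) (hy : 𝒴.p.obj y = U) : ∃ T : Term f y U, P T.q.left := by
  haveI := FC16.isFibered h𝒴
  let yb := FC16.ofObj hy
  let i := FC16.ofObjIso hy
  obtain ⟨F, e, he, hP⟩ := hf U yb
  haveI := FC16.isEquivalence_of_isEquivOver he
  let Φ := BasedFunctor.comp e (FibCat.fpFst yb f)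
  have sq := hP.1.isPullback (𝟙 ((AlgSp.yon S).obj U))
  let κ := hP.1.fst (𝟙 ((AlgSp.yon S).obj U))
  haveI : IsIso κ := sq.isIso_fst_of_isIso
  let W := hP.1.pullback (𝟙 ((AlgSp.yon S).obj U))
  let a₀ : (AlgSt.ofSp F.obj).obj := ⟨W, (AlgSp.J S).uliftYonedaEquiv κ⟩
  have hsnd : AlgSt.secHom Φ a₀ = hP.1.snd (𝟙 ((AlgSp.yon S).obj U)) := by
    have h1 := congrArg (AlgSp.J S).uliftYonedaEquiv sq.w
    rw [Category.comp_id, GrothendieckTopology.uliftYonedaEquiv_comp,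
      GrothendieckTopology.uliftYonedaEquiv_uliftYoneda_map] at h1
    exact congrArg ULift.down h1
  let P₀ := e.obj a₀
  let b := P₀.obj.fst
  let x := P₀.obj.snd
  have hxb : 𝒳.p.obj x = b.left := FC16.snd_p P₀
  haveI hP₀ : 𝒴.p.IsHomLift (𝟙 b.left) P₀.obj.iso.hom := FC16.iso_lift P₀ rfl
  let toU : ∀ b' : Over U, yb.obj b' ⟶ y := fun b' =>
    yb.map (Over.homMk b'.hom (Category.comp_id _) : b' ⟶ Over.mk (𝟙 U)) ≫ i.hom
  have htoU : ∀ b' : Over U, 𝒴.p.IsHomLift b'.hom (toU b') := fun b' => by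
    haveI h1 : 𝒴.p.IsHomLift b'.hom (yb.map (Over.homMk b'.hom (Category.comp_id _) : b' ⟶ Over.mk (𝟙 U))) := by
      haveI : (FibCat.overCat U).p.IsHomLift b'.hom
          (Over.homMk b'.hom (Category.comp_id _) : b' ⟶ Over.mk (𝟙 U)) :=
        IsHomLift.map (FibCat.overCat U).p (Over.homMk b'.hom (Category.comp_id _) : b' ⟶ Over.mk (𝟙 U))
      exact BasedFunctor.preserves_isHomLift yb _ _
    have : 𝒴.p.IsHomLift (b'.hom ≫ 𝟙 U) (toU b') := inferInstance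
    rwa [Category.comp_id] at this
  let ν : f.obj x ⟶ y := P₀.obj.iso.inv ≫ toU b
  haveI hν₀ : 𝒴.p.IsHomLift b.hom ν := by
    haveI := htoU b
    have : 𝒴.p.IsHomLift (𝟙 b.left ≫ b.hom) ν := inferInstance
    rwa [Category.id_comp] at this
  have hPb : P (eqToHom hxb ≫ b.hom).left := by
    have hb : b.hom = eqToHom (Φ.w_obj a₀) ≫ hP.1.snd (𝟙 ((AlgSp.yon S).obj U)) := by
      rw [← hsnd]
      show b.hom = eqToHom (Φ.w_obj a₀) ≫ eqToHom (Φ.w_obj a₀).symm ≫ b.hom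
      rw [eqToHom_trans_assoc, eqToHom_refl, Category.id_comp]
    have h₀ : P (hP.1.snd (𝟙 ((AlgSp.yon S).obj U))).left := hP.2 _ _ _ sq
    haveI : ∀ {A B : Over S} (h : A = B), IsIso (eqToHom h).left := fun h =>
      inferInstanceAs (IsIso ((Over.forget S).map (eqToHom h)))
    rw [hb, Over.comp_left, Over.comp_left, P.cancel_left_of_respectsIso, P.cancel_left_of_respectsIso]
    exact h₀
  refine ⟨{ w := x, q := eqToHom hxb ≫ b.hom, ν := ν, hν := ?_, aff := hP' _ hPb, uniq := fun x' φ => ?_ }, hPb⟩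
  · haveI : 𝒴.p.IsHomLift (eqToHom hxb) (𝟙 (f.obj x)) := IsHomLift.id_lift_eqToHom_domain _ (f.w_obj x)
    have : 𝒴.p.IsHomLift (eqToHom hxb ≫ b.hom) (𝟙 _ ≫ ν) := inferInstance
    rwa [Category.id_comp] at this
  · let V := 𝒳.p.obj x'
    have hfx' : 𝒴.p.obj (f.obj x') = V := f.w_obj x'
    let v : V ⟶ U := eqToHom hfx'.symm ≫ 𝒴.p.map φ ≫ eqToHom hy
    haveI hφ : 𝒴.p.IsHomLift v φ := IsHomLift.of_fac' 𝒴.p v φ hfx' hy (by simp [v])
    let b' : Over U := Over.mk v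
    haveI : 𝒴.p.IsHomLift v (toU b') := htoU b'
    haveI := FC16.isStronglyCartesian h𝒴 v (toU b')
    let χ := Functor.IsStronglyCartesian.map 𝒴.p v (toU b') (g := 𝟙 V) (f' := v) (Category.id_comp v).symm φ
    have hχ : χ ≫ toU b' = φ := Functor.IsStronglyCartesian.fac _ _ _ _ _
    haveI : IsIso χ := FC16.isIso_of_isHomLift h𝒴 (𝟙 V) χ
    let Q : (FibCat.fp yb f).obj :=
      FC16.fpObj b' x' (asIso χ).symm (U := V) rfl (inferInstanceAs (𝒴.p.IsHomLift (𝟙 V) (inv χ)))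
    obtain ⟨a, ⟨eQ⟩⟩ : ∃ a, Nonempty (e.obj a ≅ Q) := ⟨_, ⟨e.toFunctor.objObjPreimageIso Q⟩⟩
    obtain ⟨k, -, hk⟩ := existsUnique_to_terminal κ a
    have hQuniq : ∀ π π' : Q ⟶ P₀, π = π' := fun π π' => by
      obtain ⟨c, hc⟩ := e.toFunctor.map_surjective (eQ.hom ≫ π)
      obtain ⟨c', hc'⟩ := e.toFunctor.map_surjective (eQ.hom ≫ π')
      rw [← cancel_epi eQ.hom, ← hc, ← hc', hk c trivial, hk c' trivial]
    have hnat : ∀ {c c' : Over U} (g : c ⟶ c'), yb.map g ≫ toU c' = toU c := fun {c c'} g => by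
      show yb.map g ≫ yb.map _ ≫ i.hom = yb.map _ ≫ i.hom
      rw [← Category.assoc, ← Functor.map_comp]
      congr 2
      exact Over.OverMorphism.ext (Over.w g)
    have hP₀w : P₀.obj.iso.hom ≫ ν = toU b := P₀.obj.iso.hom_inv_id_assoc _
    let π₀ : Q ⟶ P₀ := eQ.inv ≫ e.map k
    refine ⟨π₀.hom.snd, ?_, fun θ hθ => ?_⟩
    · have h1 : yb.map π₀.hom.fst ≫ P₀.obj.iso.hom = inv χ ≫ f.map π₀.hom.snd := FC16.fp_w π₀
      show f.map π₀.hom.snd ≫ ν = φ
      rw [← cancel_epi (inv χ), ← Category.assoc, ← h1, Category.assoc, hP₀w, hnat]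
      exact ((IsIso.inv_comp_eq χ).2 hχ.symm).symm
    · let g : V ⟶ b.left := 𝒳.p.map θ ≫ eqToHom hxb
      haveI hθg : 𝒳.p.IsHomLift g θ := IsHomLift.of_fac' 𝒳.p g θ rfl hxb (by simp [g, V])
      haveI hfθ : 𝒴.p.IsHomLift g (f.map θ) := BasedFunctor.preserves_isHomLift f _ θ
      have hgv : g ≫ b.hom = v := by
        haveI h1 : 𝒴.p.IsHomLift (g ≫ b.hom) (f.map θ ≫ ν) := inferInstance
        rw [show f.map θ ≫ ν = φ from hθ] at h1
        haveI := h1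
        exact FC16.isHomLift_unique (p := 𝒴.p) _ _ φ
      let γ : b' ⟶ b := Over.homMk g hgv
      haveI : (FibCat.overCat U).p.IsHomLift g γ := IsHomLift.map (FibCat.overCat U).p γ
      haveI : 𝒴.p.IsHomLift g (yb.map γ) := BasedFunctor.preserves_isHomLift yb g γ
      haveI := FC16.isStronglyCartesian h𝒴 b.hom ν
      haveI : 𝒴.p.IsHomLift g (yb.map γ ≫ P₀.obj.iso.hom) := by
        have : 𝒴.p.IsHomLift (g ≫ 𝟙 b.left) (yb.map γ ≫ P₀.obj.iso.hom) := inferInstance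
        rwa [Category.comp_id] at this
      haveI : 𝒴.p.IsHomLift g (inv χ ≫ f.map θ) := by
        have : 𝒴.p.IsHomLift (𝟙 V ≫ g) (inv χ ≫ f.map θ) := inferInstance
        rwa [Category.id_comp] at this
      have hw : yb.map γ ≫ P₀.obj.iso.hom = inv χ ≫ f.map θ := by
        refine Functor.IsStronglyCartesian.ext 𝒴.p b.hom ν g ?_
        rw [Category.assoc, hP₀w, hnat, Category.assoc, show f.map θ ≫ ν = φ from hθ]
        exact ((IsIso.inv_comp_eq χ).2 hχ.symm).symm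
      exact congrArg (fun π => π.hom.snd) (hQuniq (FC16.fpHom (x := Q) (y := P₀) γ θ hw) π₀)

theorem affTerm_of_rep (h𝒴 : FibCat.IsFibGrpd 𝒴.p) {f : 𝒳 ⥤ᵇ 𝒴}
    (hf : AlgSt.RepByAlgSpWith (AlgSp.RepWith @IsAffineHom) f) : AffTerm f := fun y U hy =>
  have ⟨T, _⟩ := exists_term_of_rep h𝒴 le_rfl hf y U hy
  ⟨T⟩

end Groth.Agent.ThetaLift14
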