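import Groth.Prelude.Def_Red2
import Groth.Agent.Lib.GaPts.Basic
import Groth.Agent.Lib.IsoNat5.BGChart
import Groth.Agent.Lib.Quot16.Stack
import Mathlib.LinearAlgebra.SymmetricAlgebra.Basis
import Mathlib.AlgebraicGeometry.Morphisms.FinitePresentation

/-!
# `G_a` and the automorphisms of its trivial torsors
-/

set_option autoImplicit false
set_option backward.isDefEq.respectTransparency false
set_option backward.isDefEq.respectTransparency.types false

universe u

open CategoryTheory CategoryTheory.Limits MonoidalCategory CartesianMonoidalCategory MonObj AlgebraicGeometry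

namespace Groth.Agent.ThetaLift14

open AlgSt Groth.Agent.Quot16 Groth.Agent.IsoNat5


instance flat_GaZ : Flat Red.GaZ.{u}.hom := by
  change Flat (Spec.map (CommRingCat.ofHom (algebraMap (ULift.{u} ℤ) (SymmetricAlgebra (ULift.{u} ℤ) (ULift.{u} ℤ)))))
  rw [HasRingHomProperty.Spec_iff (P := @Flat)]
  exact RingHom.flat_algebraMap_iff.2 inferInstance

instance lfp_GaZ : LocallyOfFinitePresentation Red.GaZ.{u}.hom := by
  change LocallyOfFinitePresentation (Spec.map (CommRingCat.ofHom (algebraMap (ULift.{u} ℤ) (SymmetricAlgebra (ULift.{u} ℤ) (ULift.{u} ℤ)))))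
  rw [HasRingHomProperty.Spec_iff (P := @LocallyOfFinitePresentation)]
  refine RingHom.finitePresentation_algebraMap.2 ?_
  exact Algebra.FinitePresentation.equiv
    (SymmetricAlgebra.equivMvPolynomial (Module.Basis.singleton PUnit.{u+1} (ULift.{u} ℤ))).symm

instance affine_GaZ : IsAffineHom Red.GaZ.{u}.hom := by
  change IsAffineHom (Spec.map (CommRingCat.ofHom (algebraMap (ULift.{u} ℤ) (SymmetricAlgebra (ULift.{u} ℤ) (ULift.{u} ℤ)))))
  infer_instance

variable {S : Scheme.{u}}

instance flat_Ga : Flat (Red.Ga S).hom :=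
  MorphismProperty.pullback_snd (P := @Flat) _ _ flat_GaZ

instance lfp_Ga : LocallyOfFinitePresentation (Red.Ga S).hom :=
  MorphismProperty.pullback_snd (P := @LocallyOfFinitePresentation) _ _ lfp_GaZ

instance affine_Ga : IsAffineHom (Red.Ga S).hom :=
  MorphismProperty.pullback_snd (P := @IsAffineHom) _ _ affine_GaZ

theorem isStack_BG {G : Over S} [GrpObj G] [IsAffineHom G.hom] :
    Stk.IsStack (QuotSh.J Scheme.fppfPrecoverage S) (BG Scheme.fppfPrecoverage G) :=
  Quot16.isStack_quotSt Scheme.fppfPrecoverage_le_fpqcPrecoverage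

variable {G : Over S} [GrpObj G]

/-- A trivial torsor. -/
noncomputable abbrev trivT (W : Over S) : QuotObj Scheme.fppfPrecoverage G (trivAction G) :=
  triv Scheme.fppfPrecoverage (trivAction G) (toUnit W)

/-- Translation of a trivial torsor. -/
noncomputable def transl {W : Over S} {x : W ⟶ 𝟙_ (Over S)} (c : W ⟶ G) :
    triv Scheme.fppfPrecoverage (trivAction G) x ⟶ triv Scheme.fppfPrecoverage (trivAction G) x :=
  homOfPt _ (lift c (𝟙 W)) (toUnit_unique _ _)

theorem sec_transl_comp {W : Over S} {x : W ⟶ 𝟙_ (Over S)} (c : W ⟶ G)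
    {A : QuotObj Scheme.fppfPrecoverage G (trivAction G)}
    (M : triv Scheme.fppfPrecoverage (trivAction G) x ⟶ A) :
    Quot16.sec (transl c ≫ M) = lift c (Quot16.sec M) ≫ A.act.act := by
  rw [Quot16.sec_comp, Quot16.top_eq M]
  refine (congrArg (· ≫ _) (Quot16.sec_homOfPt _ _ _)).trans ((Category.assoc _ _ _).symm.trans ?_)
  refine congrArg (· ≫ A.act.act) ?_
  apply CartesianMonoidalCategory.hom_ext
  · simp
  · simp

/-- Translation as an isomorphism of values of the chart. -/
theorem exists_translIso {W : Over S} (x : W ⟶ 𝟙_ (Over S)) (c : W ⟶ G) :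
    ∃ γ : Iso1 (bgChart G) x (bgChart G) x, γ.iso.hom = transl c := by
  have hb : (transl (x := x) c).base = 𝟙 W := (homOfPt_base _ _ _).trans (lift_snd _ _)
  haveI : IsIso (transl (x := x) c).base := by rw [hb]; exact IsIso.id _
  haveI := isIso_of_isIso_base (transl (x := x) c)
  refine ⟨⟨asIso (transl (x := x) c), ?_⟩, rfl⟩
  have := IsHomLift.map (BG Scheme.fppfPrecoverage G).p (transl (x := x) c)
  have e : (BG Scheme.fppfPrecoverage G).p.map (transl (x := x) c) = 𝟙 W := hb
  rw [e] at this
  exact this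

/-- restriction of a translation -/
theorem transl_nat {W W' : Over S} {x : W ⟶ 𝟙_ (Over S)} {x' : W' ⟶ 𝟙_ (Over S)} (l : W' ⟶ W) (hl : l ≫ x = x')
    (c : W ⟶ G) : transl (x := x') (l ≫ c) ≫ (bgChart G).map (sl l hl) =
      (bgChart G).map (sl l hl) ≫ transl (x := x) c := by
  refine hom_ext_sec (x := x') ?_
  rw [sec_transl_comp]
  refine Eq.trans ?_ ((sec_precomp (sl l hl) (transl (x := x) c)).trans
    (congrArg (l ≫ ·) (sec_homOfPt _ _ _))).symm
  have h1 : Quot16.sec (x := x') ((bgChart G).map (sl l hl)) = l ≫ unitSec W := unitSec_natural l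
  rw [h1]
  show lift (l ≫ c) (l ≫ unitSec W) ≫ (leftMul G W).act = l ≫ lift c (𝟙 W)
  rw [← comp_lift, Category.assoc]
  refine congrArg (l ≫ ·) ?_
  apply CartesianMonoidalCategory.hom_ext
  · simp only [leftMul, unitSec, Category.assoc, lift_fst, comp_mul, lift_snd_assoc, lift_fst_assoc]
    rw [← Hom.one_def, _root_.mul_one]
  · simp only [leftMul, unitSec, Category.assoc, lift_snd, lift_snd_assoc]

/-- two group points moving a point of a torsor to the same point agree -/
theorem act_cancel {A : QuotObj Scheme.fppfPrecoverage G (trivAction G)} {W : Over S} {p : W ⟶ A.P}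
    {g g' : W ⟶ G} (e : lift g p ≫ A.act.act = lift g' p ≫ A.act.act) : g = g' := by
  have h : lift g p = lift g' p := A.cart.hom_ext e (by rw [lift_snd, lift_snd])
  simpa using congrArg (· ≫ fst _ _) h

theorem exists_act {A : QuotObj Scheme.fppfPrecoverage G (trivAction G)} {W : Over S} (p p' : W ⟶ A.P)
    (e : p' ≫ A.π = p ≫ A.π) : ∃ g : W ⟶ G, lift g p ≫ A.act.act = p' := by
  refine ⟨A.cart.lift p' p e ≫ fst _ _, ?_⟩
  have : lift (A.cart.lift p' p e ≫ fst _ _) p = A.cart.lift p' p e := by
    apply CartesianMonoidalCategory.hom_ext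
    · simp
    · rw [lift_snd]; exact (A.cart.lift_snd _ _ _).symm
  rw [this]
  exact A.cart.lift_fst _ _ _

theorem lift_act_act {A : QuotObj Scheme.fppfPrecoverage G (trivAction G)} {W : Over S} (g g' : W ⟶ G) (p : W ⟶ A.P) :
    lift g (lift g' p ≫ A.act.act) ≫ A.act.act = lift (g * g') p ≫ A.act.act := by
  have h1 : lift (g * g') p = lift (lift g g') p ≫ (μ[G] ▷ A.P) := by
    rw [lift_whiskerRight, Hom.mul_def]
  rw [h1, Category.assoc, A.act.mul_act, lift_lift_associator_hom_assoc, lift_whiskerLeft_assoc]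

end Groth.Agent.ThetaLift14
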