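import Groth.Agent.Lib.ThetaLift14.Quot
import Mathlib.RingTheory.MvPolynomial.Ideal
import Mathlib.RingTheory.FiniteType
import Mathlib.AlgebraicGeometry.Morphisms.FinitePresentation

/-!
# The charts of Θ_R and ST_R
-/

set_option autoImplicit false
set_option backward.isDefEq.respectTransparency false
set_option backward.isDefEq.respectTransparency.types false

universe u

open CategoryTheory CategoryTheory.Limits MonoidalCategory CartesianMonoidalCategory AlgebraicGeometry Opposite
open scoped TensorProduct Polynomial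

namespace Groth.Agent.ThetaLift14

open AlgSt ThetaS

variable (R : Type u) [CommRing R]

instance flat_Gm : Flat (Gm R).hom := by
  change Flat (Spec.map (CommRingCat.ofHom (algebraMap R (Lau R))))
  rw [HasRingHomProperty.Spec_iff (P := @Flat)]
  exact RingHom.flat_algebraMap_iff.2 inferInstance

instance lfp_Gm : LocallyOfFinitePresentation (Gm R).hom := by
  change LocallyOfFinitePresentation (Spec.map (CommRingCat.ofHom (algebraMap R (Lau R))))
  rw [HasRingHomProperty.Spec_iff (P := @LocallyOfFinitePresentation)]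
  refine RingHom.finitePresentation_algebraMap.2 ?_
  haveI : Algebra.FinitePresentation ℤ (MonoidAlgebra ℤ (Multiplicative ℤ)) :=
    Algebra.FinitePresentation.of_finiteType.1 inferInstance
  exact Algebra.FinitePresentation.equiv (MonoidAlgebra.scalarTensorEquiv ℤ R (M := Multiplicative ℤ))

instance affine_Gm : IsAffineHom (Gm R).hom := by
  change IsAffineHom (Spec.map (CommRingCat.ofHom (algebraMap R (Lau R))))
  infer_instance

variable {R} {B : Type u} [CommRing B] [Algebra R B]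

/-- An action of `G_m` multiplying a function by units leaves its locus invariant. -/
theorem stable_of_points (act : AlgGrp.Action (Gm R) (CoactBr.sp R B)) (b : B) (φ : B →ₐ[R] Lau R ⊗[R] B)
    (hφ : lift (CoactBr.pt (Algebra.TensorProduct.includeLeft : Lau R →ₐ[R] Lau R ⊗[R] B))
      (CoactBr.pt (Algebra.TensorProduct.includeRight : B →ₐ[R] Lau R ⊗[R] B)) ≫ act.act = CoactBr.pt φ)
    (hb : ∃ w : Lau R ⊗[R] B, IsUnit w ∧ φ b = w * (1 ⊗ₜ b)) :
    act.act.left ⁻¹ᵁ (CoactBr.sp R B).left.basicOpen ((Scheme.ΓSpecIso (CommRingCat.of B)).inv b) =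
      (snd (Gm R) (CoactBr.sp R B)).left ⁻¹ᵁ
        (CoactBr.sp R B).left.basicOpen ((Scheme.ΓSpecIso (CommRingCat.of B)).inv b) := by
  let e := lift (CoactBr.pt (Algebra.TensorProduct.includeLeft : Lau R →ₐ[R] Lau R ⊗[R] B))
      (CoactBr.pt (Algebra.TensorProduct.includeRight : B →ₐ[R] Lau R ⊗[R] B))
  haveI : IsIso e := by
    have h1 := CoactBr.lift_pt_pt (Algebra.TensorProduct.includeLeft : Lau R →ₐ[R] Lau R ⊗[R] B)
      (Algebra.TensorProduct.includeRight : B →ₐ[R] Lau R ⊗[R] B)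
    have h2 : Algebra.TensorProduct.lift (Algebra.TensorProduct.includeLeft : Lau R →ₐ[R] Lau R ⊗[R] B)
        (Algebra.TensorProduct.includeRight : B →ₐ[R] Lau R ⊗[R] B) (fun _ _ => .all _ _) = AlgHom.id R _ :=
      Algebra.TensorProduct.ext' fun x y => by simp
    rw [h2, CoactBr.pt_id] at h1
    exact IsIso.of_isIso_fac_right h1
  haveI : IsIso e.left := inferInstanceAs (IsIso ((Over.forget _).map e))
  have inj : ∀ (V₁ V₂ : (Gm R ⊗ CoactBr.sp R B).left.Opens), e.left ⁻¹ᵁ V₁ = e.left ⁻¹ᵁ V₂ → V₁ = V₂ :=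
    fun V₁ V₂ hV => TopologicalSpace.Opens.ext (Set.preimage_eq_preimage e.left.homeomorph.surjective |>.1
      (congrArg TopologicalSpace.Opens.carrier hV))
  refine inj _ _ ?_
  rw [← Scheme.Hom.comp_preimage, ← Scheme.Hom.comp_preimage, ← Over.comp_left, ← Over.comp_left, hφ,
    show e ≫ snd _ _ = CoactBr.pt (Algebra.TensorProduct.includeRight : B →ₐ[R] Lau R ⊗[R] B) from lift_snd _ _]
  obtain ⟨w, hw, hwb⟩ := hb
  simp only [CoactBr.pt_left]
  show Spec.map _ ⁻¹ᵁ (Spec (CommRingCat.of B)).basicOpen _ = Spec.map _ ⁻¹ᵁ (Spec (CommRingCat.of B)).basicOpen _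
  rw [basicOpen_eq_of_affine]
  change PrimeSpectrum.basicOpen (φ b) = PrimeSpectrum.basicOpen ((1 : Lau R) ⊗ₜ[R] b)
  rw [hwb, PrimeSpectrum.basicOpen_mul]
  exact inf_eq_right.2 fun p _ hp => p.isPrime.ne_top (Ideal.eq_top_of_isUnit_mem _ hp hw)

theorem isUnit_zPow (n : ℤ) : IsUnit (zPow R n) :=
  .of_mul_eq_one (zPow R (-n)) (by rw [zPow_mul, add_neg_cancel, zPow_zero])

theorem isUnit_tmul (n : ℤ) : IsUnit (zPow R n ⊗ₜ[R] (1 : B)) :=
  (isUnit_zPow n).map (Algebra.TensorProduct.includeLeft : Lau R →ₐ[R] Lau R ⊗[R] B)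

variable (R) in
/-- the chart of Θ_R -/
theorem chart_theta [IsDomain R] {S : Scheme.{u}} (h : Spec (CommRingCat.of R) ⟶ S) (ϖ : R) (hϖ : ϖ ≠ 0) :
    Chart (Theta Scheme.fppfPrecoverage R h) (MissesOrigin ϖ)
      (Quot16.triv Scheme.fppfPrecoverage (lineAction R) (𝟙 (Line R))) := by
  haveI : IsAffine (Line R).left := inferInstanceAs (IsAffine (Spec (CommRingCat.of R[X])))
  let K := Lau R ⊗[R] R[X]
  let iz : Lau R →ₐ[R] K := Algebra.TensorProduct.includeLeft
  let ix : R[X] →ₐ[R] K := Algebra.TensorProduct.includeRight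
  have hlp : linePt (ix Polynomial.X) = ix := Polynomial.algHom_ext (by simp)
  have hφ : lift (CoactBr.pt iz) (CoactBr.pt ix) ≫ (lineAction R).act =
      CoactBr.pt (linePt (iz (zPow R 1) * ix Polynomial.X)) := by
    conv_lhs => rw [← hlp]
    exact lineAction_pt iz (ix Polynomial.X)
  refine chart_quot h (lineAction R) (lineFn Polynomial.X) (lineFn (Polynomial.C ϖ))
    (stable_of_points _ Polynomial.X _ hφ ⟨_, isUnit_tmul 1, (Polynomial.aeval_X _).trans rfl⟩)
    (stable_of_points _ _ _ hφ ⟨1, isUnit_one, ?_⟩) ?_ ?_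
  · rw [one_mul]
    exact (Polynomial.aeval_C _ ϖ).trans (ix.commutes ϖ).symm
  · refine Hartogs3.bijective_res _ Polynomial.X (Polynomial.C ϖ) ?_ ?_ ?_ fun z hz => ?_
    · exact (basicOpen_eq_of_affine (R := CommRingCat.of R[X]) Polynomial.X).ge.trans le_sup_left
    · exact (basicOpen_eq_of_affine (R := CommRingCat.of R[X]) (Polynomial.C ϖ)).ge.trans le_sup_right
    · exact isSMulRegular_iff_right_eq_zero_of_smul.2 fun a ha =>
        (mul_eq_zero.1 ha).resolve_left Polynomial.X_ne_zero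
    · rw [Polynomial.X_dvd_iff] at hz ⊢
      rw [Polynomial.coeff_C_mul] at hz
      exact (mul_eq_zero.1 hz).resolve_left hϖ
  · refine isSMulRegular_iff_right_eq_zero_of_smul.2 fun a ha => ?_
    refine (Scheme.ΓSpecIso (CommRingCat.of R[X])).commRingCatIsoToRingEquiv.injective ?_
    have := congrArg (Scheme.ΓSpecIso (CommRingCat.of R[X])).commRingCatIsoToRingEquiv ha
    rw [smul_eq_mul, map_mul, map_zero] at this
    rw [map_zero]
    refine (mul_eq_zero.1 this).resolve_left fun e => ?_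
    exact Polynomial.X_ne_zero ((Iso.inv_hom_id_apply (Scheme.ΓSpecIso (CommRingCat.of R[X])) _).symm.trans e)

section ST

variable (R) (π : R)

local notation "P" => MvPolynomial (Fin 2) R
local notation "mk'" => (Ideal.Quotient.mk (Ideal.span
  {(MvPolynomial.X 0 * MvPolynomial.X 1 - MvPolynomial.C π : MvPolynomial (Fin 2) R)}))

/-- evaluation at `s = 0` -/
noncomputable def evS : P →ₐ[R] R[X] := MvPolynomial.aeval ![0, Polynomial.X]

theorem evS_rel : evS R (MvPolynomial.X 0 * MvPolynomial.X 1 - MvPolynomial.C π) = -Polynomial.C π := by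
  simp [evS]

theorem X_dvd_sub (p : P) : MvPolynomial.X 0 ∣ p - Polynomial.aeval (MvPolynomial.X 1 : P) (evS R p) := by
  rw [← Ideal.mem_span_singleton, ← Ideal.Quotient.eq]
  refine congrArg (fun k : P →ₐ[R] P ⧸ Ideal.span {(MvPolynomial.X 0 : P)} => k p)
    (?_ : Ideal.Quotient.mkₐ R _ = (Ideal.Quotient.mkₐ R _).comp ((Polynomial.aeval (MvPolynomial.X 1 : P)).comp (evS R)))
  refine MvPolynomial.algHom_ext fun i => ?_
  fin_cases i
  · simpa [evS] using Ideal.Quotient.eq_zero_iff_mem.2 (Ideal.mem_span_singleton_self (MvPolynomial.X 0 : P))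
  · simp [evS]

theorem sFn_cancel [IsDomain R] (hπ : π ≠ 0) {a : STRing R π} (ha : sFn R π * a = 0) : a = 0 := by
  obtain ⟨a, rfl⟩ := Ideal.Quotient.mk_surjective a
  rw [← map_mul, Ideal.Quotient.eq_zero_iff_mem] at ha
  obtain ⟨b, hb⟩ := Ideal.mem_span_singleton.1 ha
  have hev : evS R b = 0 := by
    have := congrArg (evS R) hb
    rw [map_mul, map_mul, evS_rel, show evS R (MvPolynomial.X 0) = 0 by simp [evS], zero_mul] at this
    exact (mul_eq_zero.1 this.symm).resolve_left (by simpa using hπ)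
  have hd := X_dvd_sub R b
  rw [hev, map_zero, sub_zero] at hd
  obtain ⟨c, rfl⟩ := hd
  refine Ideal.Quotient.eq_zero_iff_mem.2 (Ideal.mem_span_singleton.2 ⟨c, ?_⟩)
  refine mul_left_cancel₀ (MvPolynomial.X_ne_zero (0 : Fin 2)) ?_
  rw [hb]; ring

theorem sFn_dvd [IsDomain R] (hπ : π ≠ 0) (z : STRing R π) (hz : sFn R π ∣ tFn R π * z) : sFn R π ∣ z := by
  obtain ⟨z, rfl⟩ := Ideal.Quotient.mk_surjective z
  obtain ⟨a, ha⟩ := hz
  obtain ⟨a, rfl⟩ := Ideal.Quotient.mk_surjective a
  rw [← map_mul, ← map_mul, Ideal.Quotient.eq] at ha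
  obtain ⟨b, hb⟩ := Ideal.mem_span_singleton.1 ha
  have h0 : Polynomial.X * evS R z = -Polynomial.C π * evS R b := by
    have := congrArg (evS R) hb
    rw [map_sub, map_mul, map_mul, map_mul, evS_rel] at this
    simpa [evS] using this
  have hdvd : Polynomial.C π ∣ evS R z := by
    rw [Polynomial.C_dvd_iff_dvd_coeff]
    intro n
    have := congrArg (fun p => Polynomial.coeff p (n + 1)) h0
    simp only [Polynomial.coeff_X_mul, neg_mul, Polynomial.coeff_neg, Polynomial.coeff_C_mul] at this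
    exact ⟨-(evS R b).coeff (n + 1), by rw [this]; ring⟩
  obtain ⟨w, hw⟩ := hdvd
  obtain ⟨c, hc⟩ := X_dvd_sub R z
  rw [hw, map_mul, Polynomial.aeval_C, MvPolynomial.algebraMap_eq] at hc
  refine ⟨mk' c + tFn R π * mk' (Polynomial.aeval (MvPolynomial.X 1 : P) w), ?_⟩
  rw [sub_eq_iff_eq_add.1 hc]
  have e : mk' (MvPolynomial.C π) = sFn R π * tFn R π := by
    rw [sFn_mul_tFn]
    exact ((Ideal.Quotient.mkₐ R _).commutes π)
  simp only [map_add, map_mul, e, sFn]
  ring

/-- the loci of `s` and `t` are invariant -/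
theorem stable_st :
    (stAction R π).act.left ⁻¹ᵁ (STSch R π).left.basicOpen (stFn (sFn R π)) =
        (snd (Gm R) (STSch R π)).left ⁻¹ᵁ (STSch R π).left.basicOpen (stFn (sFn R π)) ∧
      (stAction R π).act.left ⁻¹ᵁ (STSch R π).left.basicOpen (stFn (tFn R π)) =
        (snd (Gm R) (STSch R π)).left ⁻¹ᵁ (STSch R π).left.basicOpen (stFn (tFn R π)) := by
  let K := Lau R ⊗[R] STRing R π
  let iz : Lau R →ₐ[R] K := Algebra.TensorProduct.includeLeft
  let ix : STRing R π →ₐ[R] K := Algebra.TensorProduct.includeRight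
  have hab := ((map_mul ix (sFn R π) (tFn R π)).symm.trans (congrArg ix (sFn_mul_tFn R π))).trans (ix.commutes π)
  have hlp : stPt (ix (sFn R π)) (ix (tFn R π)) hab = ix :=
    stRing_algHom_ext (stPt_sFn (ix (sFn R π)) (ix (tFn R π)) hab) (stPt_tFn (ix (sFn R π)) (ix (tFn R π)) hab)
  have hφ := stAction_pt iz (ix (sFn R π)) (ix (tFn R π)) hab
  rw [hlp] at hφ
  exact ⟨stable_of_points _ _ _ hφ ⟨_, isUnit_tmul 1, by rw [stPt_sFn]; rfl⟩,
    stable_of_points _ _ _ hφ ⟨_, isUnit_tmul (-1), by rw [stPt_tFn]; rfl⟩⟩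

/-- the chart of ST_R -/
theorem chart_st [IsDomain R] {S : Scheme.{u}} (h : Spec (CommRingCat.of R) ⟶ S) (hπ : π ≠ 0) :
    Chart (ST Scheme.fppfPrecoverage R π h) MissesNode
      (Quot16.triv Scheme.fppfPrecoverage (stAction R π) (𝟙 (STSch R π))) := by
  haveI : IsAffine (STSch R π).left := inferInstanceAs (IsAffine (Spec (CommRingCat.of (STRing R π))))
  refine chart_quot h (stAction R π) (stFn (sFn R π)) (stFn (tFn R π)) (stable_st R π).1 (stable_st R π).2 ?_ ?_
  · exact Hartogs3.bijective_res _ (sFn R π) (tFn R π)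
      ((basicOpen_eq_of_affine (R := CommRingCat.of (STRing R π)) (sFn R π)).ge.trans le_sup_left)
      ((basicOpen_eq_of_affine (R := CommRingCat.of (STRing R π)) (tFn R π)).ge.trans le_sup_right)
      (fun a b hab => sub_eq_zero.1 (sFn_cancel R π hπ (by
        rw [mul_sub, sub_eq_zero]; exact hab))) (sFn_dvd R π hπ)
  · refine isSMulRegular_iff_right_eq_zero_of_smul.2 fun a ha => ?_
    let e := (Scheme.ΓSpecIso (CommRingCat.of (STRing R π))).commRingCatIsoToRingEquiv
    refine e.injective ?_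
    have := congrArg e ha
    rw [smul_eq_mul, map_mul, map_zero, show e (stFn (sFn R π)) = sFn R π from
      Iso.inv_hom_id_apply (Scheme.ΓSpecIso (CommRingCat.of (STRing R π))) _] at this
    rw [map_zero]
    exact sFn_cancel R π hπ this

end ST

end Groth.Agent.ThetaLift14
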