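import Groth.Prelude.Def_GmAct
import Mathlib.Algebra.Polynomial.Laurent
import Mathlib.RingTheory.RingHom.FaithfullyFlat
import Mathlib.RingTheory.Flat.FaithfullyFlat.Algebra

/-!
# The class `1/π` on the punctured two-branched curve does not split
-/

set_option autoImplicit false

universe u

open LaurentPolynomial ThetaS

namespace Groth.Agent.ThetaLift14

variable {R : Type u} [CommRing R] (π : R)

/-- `s ↦ z`, `t ↦ π/z`. -/
noncomputable def toLaurent : STRing R π →ₐ[R] R[T;T⁻¹] :=
  stPt (T 1) (C π * T (-1)) (by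
    rw [mul_left_comm, ← T_add, add_neg_cancel, T_zero, mul_one]
    rfl)

theorem dvd_coeff_toLaurent (a : STRing R π) (j : ℕ) : π ^ j ∣ (toLaurent π a).coeff (-(j : ℤ)) := by
  obtain ⟨p, rfl⟩ := Ideal.Quotient.mk_surjective a
  induction p using MvPolynomial.induction_on generalizing j with
  | C r =>
    have e : toLaurent π (Ideal.Quotient.mk _ (MvPolynomial.C r)) = C r := (toLaurent π).commutes r
    rw [e, show (C r : R[T;T⁻¹]) = AddMonoidAlgebra.single 0 r from rfl, AddMonoidAlgebra.coeff_single, Finsupp.single_apply]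
    split_ifs with h
    · obtain rfl : j = 0 := by omega
      simp
    · exact dvd_zero _
  | add p q hp hq =>
    rw [map_add, map_add, AddMonoidAlgebra.coeff_add, Finsupp.add_apply]
    exact dvd_add (hp j) (hq j)
  | mul_X p i hp =>
    rw [map_mul, map_mul]
    fin_cases i
    · show π ^ j ∣ (toLaurent π _ * toLaurent π (sFn R π)).coeff _
      rw [toLaurent, stPt_sFn, ← toLaurent, T, AddMonoidAlgebra.coeff_mul_single_apply, mul_one,
        show -(j : ℤ) + -1 = -((j + 1 : ℕ) : ℤ) by push_cast; ring]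
      exact (pow_dvd_pow π (Nat.le_succ j)).trans (hp (j + 1))
    · show π ^ j ∣ (toLaurent π _ * toLaurent π (tFn R π)).coeff _
      rw [toLaurent, stPt_tFn, ← toLaurent, show C π * T (-1) = AddMonoidAlgebra.single (-1 : ℤ) π from
        (single_eq_C_mul_T π (-1)).symm, AddMonoidAlgebra.coeff_mul_single_apply]
      cases j with
      | zero => simp
      | succ j =>
        rw [show -((j + 1 : ℕ) : ℤ) + - -1 = -(j : ℤ) by push_cast; ring, pow_succ]
        exact mul_dvd_mul (hp j) dvd_rfl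

theorem toLaurent_sFn : toLaurent π (sFn R π) = T 1 := stPt_sFn _ _ _

theorem toLaurent_tFn : toLaurent π (tFn R π) = C π * T (-1) := stPt_tFn _ _ _

variable {π}

theorem not_split [IsDomain R] (hπ : π ≠ 0) (hu : ¬ IsUnit π) {B : Type u} [CommRing B]
    (φ : STRing R π →+* B) (hφ : φ.FaithfullyFlat) (bs bt : B) (m n : ℕ) :
    φ (algebraMap R _ π) ^ (m + n) ≠
      φ (algebraMap R _ π) ^ (m + 1) * (bt * φ (sFn R π) ^ n - bs * φ (tFn R π) ^ n) := by
  intro h
  letI := φ.toAlgebra
  haveI : Module.FaithfullyFlat (STRing R π) B := hφ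
  let p := algebraMap R (STRing R π) π
  let I : Ideal (STRing R π) := Ideal.span {p ^ (m + 1) * sFn R π ^ n, p ^ (m + 1) * tFn R π ^ n}
  have hI : p ^ (m + n) ∈ I := by
    rw [← Ideal.comap_map_eq_self_of_faithfullyFlat (B := B) I, Ideal.mem_comap, map_pow]
    show φ p ^ (m + n) ∈ _
    rw [h, show φ p ^ (m + 1) * (bt * φ (sFn R π) ^ n - bs * φ (tFn R π) ^ n) =
      bt * φ (p ^ (m + 1) * sFn R π ^ n) - bs * φ (p ^ (m + 1) * tFn R π ^ n) by
        rw [map_mul, map_mul, map_pow, map_pow, map_pow]; ring]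
    exact sub_mem (Ideal.mul_mem_left _ _ (Ideal.mem_map_of_mem _ (Ideal.subset_span (Or.inl rfl))))
      (Ideal.mul_mem_left _ _ (Ideal.mem_map_of_mem _ (Ideal.subset_span (Or.inr rfl))))
  obtain ⟨a, b, hab⟩ := Ideal.mem_span_pair.1 hI
  have e := congrArg (fun x => (toLaurent π x).coeff 0) hab
  simp only [p, map_add, map_mul, map_pow, toLaurent_sFn, toLaurent_tFn, AlgHom.commutes] at e
  rw [show algebraMap R R[T;T⁻¹] π = C π from rfl, T_pow, mul_pow, T_pow, ← map_pow, ← map_pow, ← map_pow,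
    ← mul_assoc (C _), ← map_mul, ← single_eq_C_mul_T, ← single_eq_C_mul_T,
    AddMonoidAlgebra.coeff_add, Finsupp.add_apply, AddMonoidAlgebra.coeff_mul_single_apply,
    AddMonoidAlgebra.coeff_mul_single_apply] at e
  simp only [mul_one, zero_add] at e
  obtain ⟨c, hc⟩ := dvd_coeff_toLaurent π a n
  rw [hc, show (C (π ^ (m + n)) : R[T;T⁻¹]) = AddMonoidAlgebra.single 0 (π ^ (m + n)) from rfl,
    AddMonoidAlgebra.coeff_single, Finsupp.single_eq_same] at e
  refine hu (IsUnit.of_mul_eq_one (c + (toLaurent π b).coeff (-(-1 * (n : ℤ)))) (mul_left_cancel₀ (pow_ne_zero (m + n) hπ) ?_))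
  rw [mul_one]
  refine Eq.trans ?_ e
  ring_nf

end Groth.Agent.ThetaLift14
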