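import Groth.Agent.Lib.ThetaLift14.Doubled
import Groth.Agent.Lib.ThetaLift14.GaBasic
import Groth.Agent.Lib.ThetaLift14.NoSplit
import Groth.Agent.Lib.ThetaLift14.Inst
import Mathlib.RingTheory.PowerSeries.Inverse

/-!
# `B G_a` is not S-complete
-/

set_option autoImplicit false
set_option backward.isDefEq.respectTransparency false
set_option backward.isDefEq.respectTransparency.types false

universe u

open CategoryTheory CategoryTheory.Limits MonoidalCategory CartesianMonoidalCategory MonObj AlgebraicGeometry Opposite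

namespace Groth.Agent.ThetaLift14

open AlgSt ThetaS Groth.Agent.Quot16 Groth.Agent.IsoNat5

theorem exists_div {Y : Scheme.{u}} [IsAffine Y] (f : Γ(Y, ⊤)) (w : Γ(Y.basicOpen f, ⊤)) :
    ∃ (n : ℕ) (b : Γ(Y, ⊤)), w * (Y.basicOpen f).ι.appTop f ^ n = (Y.basicOpen f).ι.appTop b := by
  have e : ∀ r : Γ(Y, ⊤), (Y.basicOpen f).topIso.hom ((Y.basicOpen f).ι.appTop r) =
      Y.presheaf.map (homOfLE (le_top : Y.basicOpen f ≤ ⊤)).op r := fun r => by
    rw [← ConcreteCategory.comp_apply, Scheme.Opens.ι_appTop, Scheme.Opens.topIso, Functor.mapIso_hom,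
      ← Functor.map_comp]
    rfl
  obtain ⟨n, b, hb⟩ := Hartogs3.exists_num (isAffineOpen_top Y) f ((Y.basicOpen f).topIso.hom w)
  refine ⟨n, b, ((ConcreteCategory.isIso_iff_bijective (Y.basicOpen f).topIso.hom).1 inferInstance).1 ?_⟩
  rw [map_mul, map_pow, e, e]
  exact hb

theorem pow_mul_eq_zero {Y : Scheme.{u}} [IsAffine Y] (f r : Γ(Y, ⊤)) (h : (Y.basicOpen f).ι.appTop r = 0) :
    ∃ m : ℕ, f ^ m * r = 0 := by
  refine Hartogs3.res_pow_eq_zero (isAffineOpen_top Y) f r ?_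
  have e : (Y.basicOpen f).topIso.hom ((Y.basicOpen f).ι.appTop r) =
      Y.presheaf.map (homOfLE (le_top : Y.basicOpen f ≤ ⊤)).op r := by
    rw [← ConcreteCategory.comp_apply, Scheme.Opens.ι_appTop, Scheme.Opens.topIso, Functor.mapIso_hom,
      ← Functor.map_comp]
    rfl
  rw [← e, h, map_zero]

theorem isIso_ι_of_eq_top {Y : Scheme.{u}} (T : Y.Opens) (h : T = ⊤) : IsIso T.ι := by
  subst h
  exact inferInstanceAs (IsIso Y.topIso.hom)

set_option maxHeartbeats 1000000 in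
theorem not_isSCompleteOver_BGa (k : Type u) [Field k] :
    ¬ IsSCompleteOver Scheme.fppfPrecoverage (BG Scheme.fppfPrecoverage (Red.Ga (Spec (CommRingCat.of k)))) := by
  intro hS
  classical
  let S := Spec (CommRingCat.of k)
  let G := Red.Ga S
  let 𝒢 := BG Scheme.fppfPrecoverage G
  have h𝒢 : Stk.IsStack (QuotSh.J Scheme.fppfPrecoverage S) 𝒢 := isStack_BG
  let R := PowerSeries k
  let π : R := PowerSeries.X
  have hπirr : Irreducible π := PowerSeries.X_irreducible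
  let h : Spec (CommRingCat.of R) ⟶ S := Spec.map (CommRingCat.ofHom (algebraMap k R))
  let Kr := Localization.Away π
  let cfn : Kr := IsLocalization.Away.invSelf π
  let Q : Over S := Over.mk h
  let Pk : Over S := Over.mk (Spec.map (CommRingCat.ofHom (algebraMap R Kr)) ≫ h)
  let q : Pk ⟶ Q := Over.homMk (Spec.map (CommRingCat.ofHom (algebraMap R Kr))) rfl
  haveI : IsOpenImmersion q.left := IsOpenImmersion.of_isLocalization π
  let c : Pk ⟶ G := GaPts.ptOfFn (T := Pk) ((Scheme.ΓSpecIso (CommRingCat.of Kr)).inv cfn)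
  let t : dbl q ⟶ 𝟙_ (Over S) := toUnit _
  obtain ⟨a, ha⟩ := exists_translIso (G := G) (q ≫ j₁ q ≫ t) c
  obtain ⟨tw, e₁, e₂, heq⟩ := exists_twist_dbl q h𝒢 t a
  let X := STSch R π
  haveI : IsAffine X.left := inferInstanceAs (IsAffine (Spec (CommRingCat.of (STRing R π))))
  let sF := stFn (sFn R π)
  let tF := stFn (tFn R π)
  let aX := stAction R π
  obtain ⟨hu, hv⟩ : aX.act.left ⁻¹ᵁ X.left.basicOpen sF = (snd (Gm R) X).left ⁻¹ᵁ X.left.basicOpen sF ∧
      aX.act.left ⁻¹ᵁ X.left.basicOpen tF = (snd (Gm R) X).left ⁻¹ᵁ X.left.basicOpen tF := stable_st R π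
  have hst : algebraMap R (STRing R π) π = sFn R π * tFn R π := (sFn_mul_tFn R π).symm
  have huv : ∀ x, x ∈ X.left.basicOpen sF → x ∈ X.left.basicOpen tF → X.hom x ∈ Set.range q.left := by
    intro x hx₁ hx₂
    have h₁ : sFn R π ∉ (x : PrimeSpectrum (STRing R π)).asIdeal :=
      (SetLike.ext_iff.1 (basicOpen_eq_of_affine (R := CommRingCat.of (STRing R π)) (sFn R π)) x).1 hx₁
    have h₂ : tFn R π ∉ (x : PrimeSpectrum (STRing R π)).asIdeal :=
      (SetLike.ext_iff.1 (basicOpen_eq_of_affine (R := CommRingCat.of (STRing R π)) (tFn R π)) x).1 hx₂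
    refine (PrimeSpectrum.localization_away_comap_range Kr π).symm ▸ ?_
    show algebraMap R (STRing R π) π ∉ (x : PrimeSpectrum (STRing R π)).asIdeal
    rw [hst]
    exact fun hm => ((x : PrimeSpectrum (STRing R π)).isPrime.mem_or_mem hm).elim h₁ h₂
  obtain ⟨ρ, hρnat, hρ⟩ := exists_toDbl h aX sF tF hu hv q huv
  let F := BasedFunctor.comp (toDblFun h aX sF tF ρ (fun {a' a} m => hρnat a' a m)) tw
  let ℬ := ST Scheme.fppfPrecoverage R π h
  have eself : BasedFunctor.comp (stIncl Scheme.fppfPrecoverage R π h) (FibCat.toSelf ℬ) =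
      BasedFunctor.comp F (FibCat.toSelf 𝒢) := by
    show (⟨ObjectProperty.ι _ ⋙ ℬ.p, _⟩ : stPunc Scheme.fppfPrecoverage R π h ⥤ᵇ FibCat.selfOver (Over S)) =
      ⟨F.toFunctor ⋙ 𝒢.p, _⟩
    congr 1
    exact F.w.symm
  obtain ⟨⟨d⟩, -⟩ := hS R π hπirr h ⟨F, FibCat.toSelf ℬ, eqToIso eself⟩
  let B₀ : ℬ.obj := triv Scheme.fppfPrecoverage aX (𝟙 X)
  let P₀ : QuotObj Scheme.fppfPrecoverage G (trivAction G) := d.fn.obj B₀
  let XS : Over S := (Over.map h).obj X
  have eB : P₀.base = XS := d.fn.w_obj B₀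
  let πX : P₀.P ⟶ XS := P₀.π ≫ eqToHom eB
  -- opens of `X` inside `D(s) ∪ D(t)`
  let U : X.left.Opens := X.left.basicOpen sF ⊔ X.left.basicOpen tF
  let DO : X.left.Opens → Over (Spec (CommRingCat.of R)) := fun D => Over.mk (D.ι ≫ X.hom)
  let ιO : ∀ D : X.left.Opens, DO D ⟶ X := fun D => Over.homMk D.ι rfl
  let obj : ∀ D : X.left.Opens, D ≤ U → (Punc h aX sF tF).obj := fun D hD =>
    ⟨triv Scheme.fppfPrecoverage aX (ιO D), inUnion_triv h aX hu hv (ιO D) (by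
      refine top_le_iff.1 fun y _ => ?_
      exact hD y.2)⟩
  let DS : X.left.Opens → Over S := fun D => (Over.map h).obj (DO D)
  let str : ∀ D : X.left.Opens, DS D ⟶ Q := fun D => Over.homMk (DO D).hom rfl
  let ιS : ∀ D : X.left.Opens, DS D ⟶ XS := fun D => (Over.map h).map (ιO D)
  let res : ∀ {D' D : X.left.Opens}, D' ≤ D → (DO D' ⟶ DO D) := fun {D' D} hle =>
    Over.homMk (X.left.homOfLE hle) (by simp [DO])
  have hres : ∀ {D' D : X.left.Opens} (hle : D' ≤ D), res hle ≫ ιO D = ιO D' := fun hle =>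
    Over.OverMorphism.ext (Scheme.homOfLE_ι _ hle)
  have hstr : ∀ {D' D : X.left.Opens} (hle : D' ≤ D), (Over.map h).map (res hle) ≫ str D = str D' := fun hle =>
    Over.OverMorphism.ext (Over.w (res hle))
  have hT : ∀ (w : Γ(X.left, ⊤)), aX.act.left ⁻¹ᵁ X.left.basicOpen w = (snd (Gm R) X).left ⁻¹ᵁ X.left.basicOpen w →
      ∀ (D : X.left.Opens) (hD : D ≤ U), D ≤ X.left.basicOpen w → locT aX w (obj D hD).obj = ⊤ := by
    intro w hw D hD hDw
    refine top_le_iff.1 fun y _ => ?_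
    obtain ⟨p, rfl⟩ := (π_surjective (obj D hD).obj).surj y
    refine (mem_locT_iff aX w hw (obj D hD).obj p).2 ?_
    show ((Gm R ◁ ιO D) ≫ aX.act).left p ∈ X.left.basicOpen w
    rw [Over.comp_left, Scheme.Hom.comp_apply]
    refine (SetLike.ext_iff.1 hw _).2 (hDw ?_)
    show (snd (Gm R) X).left ((Gm R ◁ ιO D).left p) ∈ D
    rw [← Scheme.Hom.comp_apply, ← Over.comp_left, whiskerLeft_snd, Over.comp_left, Scheme.Hom.comp_apply]
    exact ((snd (Gm R) (DO D)).left p).2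
  have hρ₁ : ∀ (D : X.left.Opens) (hD : D ≤ U), D ≤ X.left.basicOpen sF → str D ≫ j₁ q = ρ (obj D hD) := by
    intro D hD hDs
    haveI := isIso_ι_of_eq_top _ (hT sF hu D hD hDs)
    exact Over.OverMorphism.ext ((cancel_epi (locT aX sF (obj D hD).obj).ι).1 (hρ (obj D hD)).fst.symm)
  have hρ₂ : ∀ (D : X.left.Opens) (hD : D ≤ U), D ≤ X.left.basicOpen tF → str D ≫ j₂ q = ρ (obj D hD) := by
    intro D hD hDt
    haveI := isIso_ι_of_eq_top _ (hT tF hv D hD hDt)
    exact Over.OverMorphism.ext ((cancel_epi (locT aX tF (obj D hD).obj).ι).1 (hρ (obj D hD)).snd.symm)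
  let M : ∀ (D : X.left.Opens) (hD : D ≤ U), tw.obj (Over.mk (ρ (obj D hD))) ⟶ P₀ := fun D hD =>
    d.isoTop.inv.toNatTrans.app (obj D hD) ≫ d.fn.map ((quotMap Scheme.fppfPrecoverage (Gm R) aX).map
      ((ofOverCat X).map (Over.homMk (ιO D) (Category.comp_id _) : Over.mk (ιO D) ⟶ Over.mk (𝟙 X))))
  -- the morphisms from trivial torsors
  let N : ∀ (D : X.left.Opens) (hD : D ≤ U) (j : Q ⟶ dbl q) (_ : Iso1 tw j (bgChart G) (j ≫ t))
      (_ : str D ≫ j = ρ (obj D hD)), trivT (G := G) (DS D) ⟶ P₀ := fun D hD j e hj =>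
    (Iso1.pb h𝒢.1 e (str D) hj (toUnit_unique _ (toUnit (DS D)))).iso.inv ≫ M D hD
  have hNbase : ∀ (D : X.left.Opens) (hD : D ≤ U) (j : Q ⟶ dbl q) (e : Iso1 tw j (bgChart G) (j ≫ t))
      (hj : str D ≫ j = ρ (obj D hD)), Quot16.sec (N D hD j e hj) ≫ πX = ιS D := by
    intro D hD j e hj
    haveI := (Iso1.pb h𝒢.1 e (str D) hj (toUnit_unique _ (toUnit (DS D)))).lift
    haveI : 𝒢.p.IsHomLift (𝟙 (DS D)) (Iso1.pb h𝒢.1 e (str D) hj (toUnit_unique _ (toUnit (DS D)))).iso.inv :=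
      IsHomLift.lift_id_inv 𝒢.p (DS D) _
    haveI : 𝒢.p.IsHomLift (𝟙 (DS D)) (d.isoTop.inv.toNatTrans.app (obj D hD)) :=
      d.isoTop.inv.isHomLift' (obj D hD)
    let m : (obj D hD).obj ⟶ B₀ := (quotMap Scheme.fppfPrecoverage (Gm R) aX).map
      ((ofOverCat X).map (Over.homMk (ιO D) (Category.comp_id _) : Over.mk (ιO D) ⟶ Over.mk (𝟙 X)))
    haveI : ℬ.p.IsHomLift (ιS D) m := IsHomLift.map ℬ.p m
    haveI : 𝒢.p.IsHomLift (ιS D) (d.fn.map m) := BasedFunctor.preserves_isHomLift d.fn _ m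
    haveI hN : 𝒢.p.IsHomLift (𝟙 (DS D) ≫ 𝟙 (DS D) ≫ ιS D) (N D hD j e hj) := inferInstance
    have hfac := IsHomLift.fac' 𝒢.p (𝟙 (DS D) ≫ 𝟙 (DS D) ≫ ιS D) (N D hD j e hj)
    show _ ≫ P₀.π ≫ eqToHom eB = _
    rw [← Category.assoc, Quot16.sec_π]
    change (N D hD j e hj).base = _ at hfac
    rw [hfac]
    simp
  have hNnat : ∀ (D' D : X.left.Opens) (hle : D' ≤ D) (hD : D ≤ U) (j : Q ⟶ dbl q)
      (e : Iso1 tw j (bgChart G) (j ≫ t)) (hj : str D ≫ j = ρ (obj D hD))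
      (hj' : str D' ≫ j = ρ (obj D' (hle.trans hD))),
      (Over.map h).map (res hle) ≫ Quot16.sec (N D hD j e hj) = Quot16.sec (N D' (hle.trans hD) j e hj') := by
    intro D' D hle hD j e hj hj'
    let κ : DS D' ⟶ DS D := (Over.map h).map (res hle)
    let k : obj D' (hle.trans hD) ⟶ obj D hD := ObjectProperty.homMk ((quotMap Scheme.fppfPrecoverage (Gm R) aX).map
      ((ofOverCat X).map (Over.homMk (res hle) (hres hle) : Over.mk (ιO D') ⟶ Over.mk (ιO D))))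
    have hκρ : κ ≫ ρ (obj D hD) = ρ (obj D' (hle.trans hD)) := hρnat _ _ k
    have hκt : κ ≫ toUnit (DS D) = toUnit (DS D') := toUnit_unique _ _
    let E := Iso1.pb h𝒢.1 e (str D) hj (toUnit_unique _ (toUnit (DS D)))
    let E' := Iso1.pb h𝒢.1 e (str D') hj' (toUnit_unique _ (toUnit (DS D')))
    have hE : Iso1.pb h𝒢.1 E κ hκρ hκt = E' := by
      rw [Iso1.pb_pb]
      exact Iso1.pb_congr h𝒢.1 e (hstr hle) _ _
    have h1 : E'.iso.hom ≫ (bgChart G).map (sl κ hκt) = tw.map (sl κ hκρ) ≫ E.iso.hom := by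
      rw [← hE]
      exact Iso1.pb_spec h𝒢.1 E κ hκρ hκt
    have h2 : (bgChart G).map (sl κ hκt) ≫ E.iso.inv = E'.iso.inv ≫ tw.map (sl κ hκρ) := by
      rw [Iso.eq_inv_comp, ← Category.assoc, h1, Category.assoc, Iso.hom_inv_id, Category.comp_id]
    have h3 : tw.map (sl κ hκρ) ≫ M D hD = M D' (hle.trans hD) := by
      have hn := d.isoTop.inv.toNatTrans.naturality k
      show F.map k ≫ _ ≫ _ = _
      refine ((Category.assoc _ _ _).symm.trans (congrArg (· ≫ _) hn)).trans ?_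
      refine (Category.assoc _ _ _).trans (congrArg (_ ≫ ·) ?_)
      refine (d.fn.map_comp _ _).symm.trans (congrArg (d.fn.map) ?_)
      refine ((quotMap Scheme.fppfPrecoverage (Gm R) aX).map_comp _ _).symm.trans
        (congrArg (quotMap Scheme.fppfPrecoverage (Gm R) aX).map ?_)
      rw [← (ofOverCat X).map_comp]
      exact congrArg (ofOverCat X).map (Over.OverMorphism.ext (hres hle))
    have h4 : (bgChart G).map (sl κ hκt) ≫ N D hD j e hj = N D' (hle.trans hD) j e hj' := by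
      show _ ≫ E.iso.inv ≫ M D hD = E'.iso.inv ≫ M D' (hle.trans hD)
      rw [reassoc_of% h2, h3]
    rw [← h4]
    exact (sec_precomp (sl κ hκt) (N D hD j e hj)).symm
  let Us := X.left.basicOpen sF
  let Ut := X.left.basicOpen tF
  let O := Us ⊓ Ut
  have hUs : Us ≤ U := le_sup_left
  have hUt : Ut ≤ U := le_sup_right
  have hOU : O ≤ U := inf_le_left.trans hUs
  let σs : DS Us ⟶ P₀.P := Quot16.sec (N Us hUs (j₁ q) e₁ (hρ₁ _ hUs le_rfl))
  let σt : DS Ut ⟶ P₀.P := Quot16.sec (N Ut hUt (j₂ q) e₂ (hρ₂ _ hUt le_rfl))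
  have hOr : Set.range (str O).left ⊆ Set.range q.left := by
    rintro _ ⟨y, rfl⟩
    exact huv _ y.2.1 y.2.2
  let l : DS O ⟶ Pk := Over.homMk (IsOpenImmersion.lift q.left (str O).left hOr) (by
    show _ ≫ q.left ≫ h = _
    rw [IsOpenImmersion.lift_fac_assoc]
    exact Over.w (str O))
  have hl : l ≫ q = str O := Over.OverMorphism.ext (IsOpenImmersion.lift_fac _ _ _)
  have hrel : (Over.map h).map (res (inf_le_left : O ≤ Us)) ≫ σs =
      lift (l ≫ c) ((Over.map h).map (res (inf_le_right : O ≤ Ut)) ≫ σt) ≫ P₀.act.act := by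
    rw [hNnat O Us inf_le_left hUs (j₁ q) e₁ _ (hρ₁ _ hOU inf_le_left),
      hNnat O Ut inf_le_right hUt (j₂ q) e₂ _ (hρ₂ _ hOU inf_le_right), ← sec_transl_comp]
    refine congrArg Quot16.sec ?_
    obtain ⟨gm, hgm⟩ := exists_translIso (G := G) (toUnit (DS O)) (l ≫ c)
    let E₁ := Iso1.pb h𝒢.1 e₁ (str O) (hρ₁ _ hOU inf_le_left) (toUnit_unique _ (toUnit (DS O)))
    let E₂ := Iso1.pb h𝒢.1 e₂ (str O) (hρ₂ _ hOU inf_le_right) (toUnit_unique _ (toUnit (DS O)))
    have hgm' : Iso1.pb h𝒢.1 a l (toUnit_unique _ (toUnit (DS O))) (toUnit_unique _ (toUnit (DS O))) = gm :=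
      Iso1.pb_unique h𝒢.1 gm (by rw [hgm, ha]; exact transl_nat l _ c)
    have hkey := congrArg (fun w => Iso1.pb h𝒢.1 w l
      (g' := ρ (obj O hOU)) (t' := toUnit (DS O))
      (by rw [reassoc_of% hl]; exact hρ₁ _ hOU inf_le_left) (toUnit_unique _ _)) heq
    rw [Iso1.pb_trans h𝒢.1 _ _ l _ (toUnit_unique _ (toUnit (DS O))) _, hgm', Iso1.pb_pb, Iso1.pb_pb] at hkey
    have h5 : E₁.trans gm = E₂ := by
      refine ((congrArg (fun w => Iso1.trans w gm) (Iso1.pb_congr h𝒢.1 e₁ hl _ _)).symm.trans hkey).trans ?_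
      exact Iso1.pb_congr h𝒢.1 e₂ hl _ _
    show E₁.iso.inv ≫ M O hOU = transl (l ≫ c) ≫ E₂.iso.inv ≫ M O hOU
    have h6 : E₂.iso.inv = gm.iso.inv ≫ E₁.iso.inv := by rw [← h5]; rfl
    rw [h6, Category.assoc, ← hgm]
    exact (Iso.hom_inv_id_assoc _ _).symm
  -- functions on the torsor
  haveI : IsAffineHom P₀.π.left := π_isAffineHom P₀
  haveI : Flat P₀.π.left := π_flat P₀
  haveI : Surjective P₀.π.left := π_surjective P₀
  haveI : IsIso (eqToHom eB).left := inferInstanceAs (IsIso ((Over.forget S).map (eqToHom eB)))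
  haveI : IsAffineHom πX.left := inferInstanceAs (IsAffineHom (P₀.π.left ≫ (eqToHom eB).left))
  haveI : Flat πX.left := inferInstanceAs (Flat (P₀.π.left ≫ (eqToHom eB).left))
  haveI : Surjective πX.left := inferInstanceAs (Surjective (P₀.π.left ≫ (eqToHom eB).left))
  haveI : IsAffine XS.left := ‹IsAffine X.left›
  haveI : IsAffine P₀.P.left := isAffine_of_isAffineHom πX.left
  let eA := Scheme.ΓSpecIso (CommRingCat.of (STRing R π))
  let φ : STRing R π →+* Γ(P₀.P.left, ⊤) := πX.left.appTop.hom.comp eA.inv.hom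
  have hφ : φ.FaithfullyFlat :=
    RingHom.FaithfullyFlat.stableUnderComposition _ _
      (RingHom.FaithfullyFlat.of_bijective ((ConcreteCategory.isIso_iff_bijective eA.inv).1 inferInstance))
      ((Flat.flat_and_surjective_iff_faithfullyFlat_of_isAffine πX.left).1 ⟨inferInstance, inferInstance⟩)
  let fs : Γ(P₀.P.left, ⊤) := φ (sFn R π)
  let ft : Γ(P₀.P.left, ⊤) := φ (tFn R π)
  let PO : P₀.P.left.Opens → Over S := fun D => Over.mk (D.ι ≫ P₀.P.hom)
  let ιP : ∀ D : P₀.P.left.Opens, PO D ⟶ P₀.P := fun D => Over.homMk D.ι rfl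
  have hpre : ∀ b : STRing R π, P₀.P.left.basicOpen (φ b) = πX.left ⁻¹ᵁ X.left.basicOpen (stFn b) := fun b =>
    (Scheme.preimage_basicOpen_top πX.left (stFn b)).symm
  have mk : ∀ (V : P₀.P.left.Opens) (D : X.left.Opens), V ≤ πX.left ⁻¹ᵁ D →
      ∃ α : PO V ⟶ DS D, α ≫ ιS D = ιP V ≫ πX := by
    intro V D hVD
    have hr : Set.range (V.ι ≫ πX.left) ⊆ Set.range D.ι := by
      rw [Scheme.Opens.range_ι]
      rintro _ ⟨y, rfl⟩
      exact hVD y.2
    let α : PO V ⟶ DS D := Over.homMk (IsOpenImmersion.lift D.ι (V.ι ≫ πX.left) hr) (by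
      show _ ≫ (D.ι ≫ X.hom) ≫ h = V.ι ≫ P₀.P.hom
      simp only [Category.assoc]
      rw [IsOpenImmersion.lift_fac_assoc, ← Over.w πX]
      rfl)
    exact ⟨α, Over.OverMorphism.ext (IsOpenImmersion.lift_fac _ _ _)⟩
  let Ps := P₀.P.left.basicOpen fs
  let Pt := P₀.P.left.basicOpen ft
  let Pst := P₀.P.left.basicOpen (fs * ft)
  have hle₁ : Pst ≤ Ps := by simp only [Pst, Scheme.basicOpen_mul]; exact inf_le_left
  have hle₂ : Pst ≤ Pt := by simp only [Pst, Scheme.basicOpen_mul]; exact inf_le_right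
  obtain ⟨αs, hαs⟩ := mk Ps Us (hpre (sFn R π)).le
  obtain ⟨αt, hαt⟩ := mk Pt Ut (hpre (tFn R π)).le
  obtain ⟨αo, hαo⟩ := mk Pst O (by
    rw [Scheme.Hom.preimage_inf]
    exact le_inf (hle₁.trans (hpre (sFn R π)).le) (hle₂.trans (hpre (tFn R π)).le))
  have hsπ : (αs ≫ σs) ≫ P₀.π = ιP Ps ≫ P₀.π := by
    rw [← cancel_mono (eqToHom eB)]
    simp only [Category.assoc]
    exact (congrArg (αs ≫ ·) (hNbase Us hUs _ _ _)).trans hαs
  have htπ : (αt ≫ σt) ≫ P₀.π = ιP Pt ≫ P₀.π := by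
    rw [← cancel_mono (eqToHom eB)]
    simp only [Category.assoc]
    exact (congrArg (αt ≫ ·) (hNbase Ut hUt _ _ _)).trans hαt
  obtain ⟨gs, hgs⟩ := exists_act (αs ≫ σs) (ιP Ps) hsπ.symm
  obtain ⟨gt, hgt⟩ := exists_act (αt ≫ σt) (ιP Pt) htπ.symm
  let βs : PO Pst ⟶ PO Ps := Over.homMk (P₀.P.left.homOfLE hle₁) (by simp [PO])
  let βt : PO Pst ⟶ PO Pt := Over.homMk (P₀.P.left.homOfLE hle₂) (by simp [PO])
  have hβs : βs ≫ ιP Ps = ιP Pst := Over.OverMorphism.ext (Scheme.homOfLE_ι _ hle₁)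
  have hβt : βt ≫ ιP Pt = ιP Pst := Over.OverMorphism.ext (Scheme.homOfLE_ι _ hle₂)
  have hmono : ∀ D : X.left.Opens, Mono (ιS D) := fun D => by
    haveI : Mono (ιS D).left := inferInstanceAs (Mono D.ι)
    exact Over.mono_of_mono_left _
  have hα₁ : βs ≫ αs = αo ≫ (Over.map h).map (res (inf_le_left : O ≤ Us)) := by
    haveI := hmono Us
    rw [← cancel_mono (ιS Us), Category.assoc, Category.assoc, hαs, reassoc_of% hβs]
    rw [← (Over.map h).map_comp, hres]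
    exact hαo.symm
  have hα₂ : βt ≫ αt = αo ≫ (Over.map h).map (res (inf_le_right : O ≤ Ut)) := by
    haveI := hmono Ut
    rw [← cancel_mono (ιS Ut), Category.assoc, Category.assoc, hαt, reassoc_of% hβt]
    rw [← (Over.map h).map_comp, hres]
    exact hαo.symm
  have hg : (βs ≫ gs) * (αo ≫ l ≫ c) = βt ≫ gt := by
    refine act_cancel (p := βt ≫ αt ≫ σt) ?_
    have es : lift (βs ≫ gs) (βs ≫ αs ≫ σs) ≫ P₀.act.act = ιP Pst := by
      rw [← comp_lift, Category.assoc, hgs, hβs]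
    have et : lift (βt ≫ gt) (βt ≫ αt ≫ σt) ≫ P₀.act.act = ιP Pst := by
      rw [← comp_lift, Category.assoc, hgt, hβt]
    have er : βs ≫ αs ≫ σs = lift (αo ≫ l ≫ c) (βt ≫ αt ≫ σt) ≫ P₀.act.act := by
      rw [reassoc_of% hα₁, reassoc_of% hα₂, hrel, ← Category.assoc, comp_lift]
    rw [et, ← lift_act_act, ← er, es]
  obtain ⟨n₁, b₁, hb₁⟩ := exists_div fs (Red.gaFn gs)
  obtain ⟨n₂, b₂, hb₂⟩ := exists_div ft (Red.gaFn gt)
  let ι₀ := Pst.ι.appTop.hom
  let ws : Γ(Pst.toScheme, ⊤) := βs.left.appTop (Red.gaFn gs)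
  let wt : Γ(Pst.toScheme, ⊤) := βt.left.appTop (Red.gaFn gt)
  let cc : Γ(Pst.toScheme, ⊤) := Red.gaFn (αo ≫ l ≫ c)
  have hsum : ws + cc = wt := by
    have := congrArg Red.gaFn hg
    rw [GaPts.gaFn_mul, GaPts.gaFn_comp, GaPts.gaFn_comp βt] at this
    exact this
  have hws : ws * ι₀ fs ^ n₁ = ι₀ b₁ := by
    have := congrArg βs.left.appTop hb₁
    rw [map_mul, map_pow] at this
    have e : ∀ r, βs.left.appTop (Ps.ι.appTop r) = ι₀ r := fun r => by
      exact ConcreteCategory.congr_hom ((Scheme.Hom.comp_appTop _ _).symm.trans (congrArg Scheme.Hom.appTop (Scheme.homOfLE_ι _ hle₁))) r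
    rwa [e, e] at this
  have hwt : wt * ι₀ ft ^ n₂ = ι₀ b₂ := by
    have := congrArg βt.left.appTop hb₂
    rw [map_mul, map_pow] at this
    have e : ∀ r, βt.left.appTop (Pt.ι.appTop r) = ι₀ r := fun r => by
      exact ConcreteCategory.congr_hom ((Scheme.Hom.comp_appTop _ _).symm.trans (congrArg Scheme.Hom.appTop (Scheme.homOfLE_ι _ hle₂))) r
    rwa [e, e] at this
  let p := φ (algebraMap R (STRing R π) π)
  have hp : p = fs * ft := by rw [← map_mul, ← hst]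
  have hcc : cc * ι₀ p = 1 := by
    have e1 : cc = (αo ≫ l).left.appTop ((Scheme.ΓSpecIso (CommRingCat.of Kr)).inv cfn) := by
      show Red.gaFn (αo ≫ l ≫ c) = _
      rw [← Category.assoc, GaPts.gaFn_comp, GaPts.gaFn_ptOfFn]
    have e2 : (αo ≫ l ≫ q).left = Pst.ι ≫ πX.left ≫ X.hom := by
      rw [hl, Over.comp_left]
      show αo.left ≫ O.ι ≫ X.hom = _
      exact ((Category.assoc _ _ _).symm.trans (congrArg (fun w => w ≫ X.hom) (congrArg (fun w : PO Pst ⟶ XS => w.left) hαo))).trans (Category.assoc _ _ _)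
    have e3 : ι₀ p = (αo ≫ l).left.appTop ((Scheme.ΓSpecIso (CommRingCat.of Kr)).inv (algebraMap R Kr π)) := by
      have a1 : (Scheme.ΓSpecIso (CommRingCat.of Kr)).inv (algebraMap R Kr π) =
          q.left.appTop ((Scheme.ΓSpecIso (CommRingCat.of R)).inv π) :=
        ConcreteCategory.congr_hom (Scheme.ΓSpecIso_inv_naturality (CommRingCat.ofHom (algebraMap R Kr))) π
      have a2 : eA.inv (algebraMap R (STRing R π) π) = X.hom.appTop ((Scheme.ΓSpecIso (CommRingCat.of R)).inv π) :=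
        ConcreteCategory.congr_hom (Scheme.ΓSpecIso_inv_naturality (CommRingCat.ofHom (algebraMap R (STRing R π)))) π
      show Pst.ι.appTop (πX.left.appTop (eA.inv (algebraMap R (STRing R π) π))) = _
      rw [a1, a2]
      exact ConcreteCategory.congr_hom (congrArg Scheme.Hom.appTop
        (e2.symm.trans (show (αo ≫ l ≫ q).left = (αo ≫ l).left ≫ q.left by simp))) _
    rw [e1, e3]
    refine (map_mul _ _ _).symm.trans ((congrArg _ ((map_mul _ _ _).symm.trans ((congrArg _ ?_).trans (map_one _)))).trans (map_one _))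
    rw [mul_comm]
    exact IsLocalization.Away.mul_invSelf π
  let n := n₁ + n₂
  have key : ι₀ (p ^ n) = ι₀ (p * (b₂ * ft ^ n₁ * fs ^ n - b₁ * fs ^ n₂ * ft ^ n)) := by
    have hp' : ι₀ p = ι₀ fs * ι₀ ft := by rw [hp, map_mul]
    rw [hp'] at hcc
    simp only [map_mul, map_sub, map_pow, ← hws, ← hwt, ← hsum, hp', n, pow_add]
    linear_combination -(ι₀ fs ^ (n₁ + n₂) * ι₀ ft ^ (n₁ + n₂)) * hcc
  obtain ⟨m, hm⟩ := pow_mul_eq_zero (fs * ft) (p ^ n - p * (b₂ * ft ^ n₁ * fs ^ n - b₁ * fs ^ n₂ * ft ^ n))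
    (by rw [map_sub, sub_eq_zero]; exact key)
  refine not_split hπirr.ne_zero hπirr.not_isUnit φ hφ (b₁ * fs ^ n₂) (b₂ * ft ^ n₁) m n ?_
  rw [← hp, mul_sub, sub_eq_zero] at hm
  rw [pow_add, hm, ← _root_.mul_assoc, ← pow_succ]

end Groth.Agent.ThetaLift14
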