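import Groth.Agent.Lib.ThetaLift14.Quot
import Groth.Agent.Lib.IsoNat5.Dbl

/-!
# The map of the punctured quotient stack to a base doubled along an open
-/

set_option autoImplicit false
set_option backward.isDefEq.respectTransparency false
set_option backward.isDefEq.respectTransparency.types false

universe u

open CategoryTheory CategoryTheory.Limits MonoidalCategory CartesianMonoidalCategory MonObj AlgebraicGeometry

namespace Groth.Agent.ThetaLift14

open AlgSt Groth.Agent.Quot16 Groth.Agent.IsoNat5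

variable {S : Scheme.{u}} {P Q : Over S} (q : P ⟶ Q) [IsOpenImmersion q.left]

/-- `ρ` is `str` into the first copy on `T₁` and into the second copy on `T₂`. -/
structure Glued {Y : Over S} (str : Y ⟶ Q) (T₁ T₂ : Y.left.Opens) (ρ : Y ⟶ dbl q) : Prop where
  fst : T₁.ι ≫ ρ.left = T₁.ι ≫ str.left ≫ (j₁ q).left
  snd : T₂.ι ≫ ρ.left = T₂.ι ≫ str.left ≫ (j₂ q).left

theorem Glued.eq {Y : Over S} {str : Y ⟶ Q} {T₁ T₂ : Y.left.Opens} (hc : T₁ ⊔ T₂ = ⊤) {ρ ρ' : Y ⟶ dbl q}
    (h : Glued q str T₁ T₂ ρ) (h' : Glued q str T₁ T₂ ρ') : ρ = ρ' := by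
  refine Over.OverMorphism.ext ((Y.left.openCoverOfIsOpenCover (fun b : Bool => bif b then T₁ else T₂)
    (by show iSup _ = ⊤; rw [iSup_bool_eq]; exact hc)).hom_ext _ _ ?_)
  rintro (_ | _)
  · exact h.snd.trans h'.snd.symm
  · exact h.fst.trans h'.fst.symm

theorem exists_glued {Y : Over S} (str : Y ⟶ Q) (T₁ T₂ : Y.left.Opens) (hc : T₁ ⊔ T₂ = ⊤)
    (hr : ∀ y, y ∈ T₁ → y ∈ T₂ → str.left y ∈ Set.range q.left) : ∃ ρ : Y ⟶ dbl q, Glued q str T₁ T₂ ρ := by
  let 𝒰 := Y.left.openCoverOfIsOpenCover (fun b : Bool => bif b then T₁ else T₂)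
    (by show iSup _ = ⊤; rw [iSup_bool_eq]; exact hc)
  let f : ∀ b : Bool, 𝒰.X b ⟶ (dbl q).left := fun b =>
    𝒰.f b ≫ str.left ≫ (bif b then (j₁ q).left else (j₂ q).left)
  have key : ∀ {W : Scheme.{u}} (m : W ⟶ Y.left), (∀ w, m w ∈ T₁) → (∀ w, m w ∈ T₂) →
      m ≫ str.left ≫ (j₁ q).left = m ≫ str.left ≫ (j₂ q).left := fun {W} m h₁ h₂ => by
    have hm : Set.range (m ≫ str.left) ⊆ Set.range q.left := by
      rintro _ ⟨w, rfl⟩
      exact hr _ (h₁ w) (h₂ w)
    rw [← Category.assoc, ← Category.assoc, ← IsOpenImmersion.lift_fac q.left (m ≫ str.left) hm, Category.assoc,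
      Category.assoc]
    exact congrArg (_ ≫ ·) (congrArg CommaMorphism.left (q_j q))
  have hmem : ∀ (b : Bool) x, 𝒰.f b x ∈ (bif b then T₁ else T₂ : Y.left.Opens) := fun b x => by
    cases b <;> exact x.2
  have hf : ∀ b b', pullback.fst (𝒰.f b) (𝒰.f b') ≫ f b = pullback.snd (𝒰.f b) (𝒰.f b') ≫ f b' := fun b b' => by
    show pullback.fst _ _ ≫ 𝒰.f b ≫ _ = pullback.snd _ _ ≫ 𝒰.f b' ≫ _
    have e := pullback.condition (f := 𝒰.f b) (g := 𝒰.f b')
    rw [reassoc_of% e]
    cases b <;> cases b'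
    · rfl
    · refine (key (pullback.snd _ _ ≫ 𝒰.f true) (fun w => hmem true _) fun w => ?_).symm.trans ?_ |>.trans rfl
      · rw [← e]; exact hmem false _
      · rw [Category.assoc]; rfl
    · refine Eq.trans ?_ ((key (pullback.snd _ _ ≫ 𝒰.f false) (fun w => ?_) fun w => hmem false _).trans
        (Category.assoc _ _ _))
      · rw [Category.assoc]; rfl
      · rw [← e]; exact hmem true _
    · rfl
  let g := 𝒰.glueMorphisms f hf
  have hg : g ≫ (dbl q).hom = Y.hom := by
    refine 𝒰.hom_ext _ _ fun b => ?_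
    rw [Scheme.Cover.ι_glueMorphisms_assoc]
    show (𝒰.f b ≫ str.left ≫ (bif b then (j₁ q).left else (j₂ q).left)) ≫ (dbl q).hom = 𝒰.f b ≫ Y.hom
    rw [Category.assoc, Category.assoc]
    refine congrArg (𝒰.f b ≫ ·) ?_
    cases b
    · exact (congrArg (str.left ≫ ·) (Over.w (j₂ q))).trans (Over.w str)
    · exact (congrArg (str.left ≫ ·) (Over.w (j₁ q))).trans (Over.w str)
  exact ⟨Over.homMk g hg, Scheme.Cover.ι_glueMorphisms 𝒰 f hf true, Scheme.Cover.ι_glueMorphisms 𝒰 f hf false⟩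

section Quot

variable {S' : Scheme.{u}} (h : S' ⟶ S) {G : Over S'} [GrpObj G] {X : Over S'} (aX : AlgGrp.Action G X)
  [Flat G.hom] [LocallyOfFinitePresentation G.hom] (u v : Γ(X.left, ⊤))

/-- The locus of `u` on a torsor. -/
def locP (A : QuotObj Scheme.fppfPrecoverage G aX) : A.P.left.Opens := A.φ.left ⁻¹ᵁ X.left.basicOpen u

/-- Its image in the base. -/
def locT (A : QuotObj Scheme.fppfPrecoverage G aX) : A.base.left.Opens :=
  ⟨A.π.left '' (locP aX u A : Set A.P.left), by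
    haveI := π_flat A
    haveI := π_lfp A
    exact A.π.left.isOpenMap _ (locP aX u A).2⟩

theorem mem_locT_iff (hu : aX.act.left ⁻¹ᵁ X.left.basicOpen u = (snd G X).left ⁻¹ᵁ X.left.basicOpen u)
    (A : QuotObj Scheme.fppfPrecoverage G aX) (p : A.P.left) : A.π.left p ∈ locT aX u A ↔ p ∈ locP aX u A := by
  refine ⟨fun ⟨p', hp', e⟩ => ?_, fun hp => ⟨p, hp, rfl⟩⟩
  have sq : IsPullback A.act.act.left (snd G A.P).left A.π.left A.π.left := A.cart.map (Over.forget S')
  obtain ⟨w, hw₁, hw₂⟩ := Scheme.Pullback.exists_preimage_pullback (f := A.π.left) (g := A.π.left) p p' e.symm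
  have e₁ : A.act.act.left (sq.isoPullback.inv w) = p := by
    rw [← Scheme.Hom.comp_apply]
    exact (congrArg (fun k => k w) sq.isoPullback_inv_fst).trans hw₁
  have e₂ : (snd G A.P).left (sq.isoPullback.inv w) = p' := by
    rw [← Scheme.Hom.comp_apply]
    exact (congrArg (fun k => k w) sq.isoPullback_inv_snd).trans hw₂
  have hsat : A.act.act.left ⁻¹ᵁ locP aX u A = (snd G A.P).left ⁻¹ᵁ locP aX u A := by
    simp only [locP]
    rw [← Scheme.Hom.comp_preimage, ← Scheme.Hom.comp_preimage, ← Over.comp_left, ← Over.comp_left, A.eqv,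
      ← whiskerLeft_snd (X := G) A.φ, Over.comp_left, Over.comp_left, Scheme.Hom.comp_preimage,
      Scheme.Hom.comp_preimage, hu]
  rw [← e₁]
  exact (SetLike.ext_iff.1 hsat _).2 (show (snd G A.P).left (sq.isoPullback.inv w) ∈ locP aX u A by rwa [e₂])

variable (hu : aX.act.left ⁻¹ᵁ X.left.basicOpen u = (snd G X).left ⁻¹ᵁ X.left.basicOpen u)
  (hv : aX.act.left ⁻¹ᵁ X.left.basicOpen v = (snd G X).left ⁻¹ᵁ X.left.basicOpen v)

/-- The structure map to the base scheme. -/
noncomputable def strQ (A : QuotObj Scheme.fppfPrecoverage G aX) : (Over.map h).obj A.base ⟶ Over.mk h :=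
  Over.homMk A.base.hom rfl

/-- The punctured quotient stack -/
abbrev Punc : AlgSt.Cat S :=
  fullSub (ThetaS.overS h (QuotSt Scheme.fppfPrecoverage G aX)) (InUnion h aX u v)

/-- The functor to `dbl qS` attached to a natural family of morphisms. -/
noncomputable def toDblFun {Z : Over S} (ρ : ∀ a : (Punc h aX u v).obj, (Over.map h).obj a.obj.base ⟶ Z)
    (hnat : ∀ {a' a : (Punc h aX u v).obj} (m : a' ⟶ a), (Over.map h).map m.hom.base ≫ ρ a = ρ a') :
    Punc h aX u v ⥤ᵇ FibCat.overCat Z where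
  toFunctor :=
    { obj := fun a => Over.mk (ρ a)
      map := fun {a' a} m => Over.homMk ((Over.map h).map m.hom.base) (hnat m)
      map_id := fun a => Over.OverMorphism.ext ((Over.map h).map_id _)
      map_comp := fun m n => Over.OverMorphism.ext ((Over.map h).map_comp _ _) }
  w := rfl

include hu hv in
theorem exists_toDbl (qS : P ⟶ Over.mk h) [IsOpenImmersion qS.left]
    (huv : ∀ x, x ∈ X.left.basicOpen u → x ∈ X.left.basicOpen v → X.hom x ∈ Set.range qS.left) :
    ∃ ρ : ∀ a : (Punc h aX u v).obj, (Over.map h).obj a.obj.base ⟶ dbl qS,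
      (∀ (a' a : (Punc h aX u v).obj) (m : a' ⟶ a), (Over.map h).map m.hom.base ≫ ρ a = ρ a') ∧
      ∀ a, Glued qS (strQ h aX a.obj) (locT aX u a.obj) (locT aX v a.obj) (ρ a) := by
  have hcov : ∀ a : (fullSub (ThetaS.overS h (QuotSt Scheme.fppfPrecoverage G aX)) (InUnion h aX u v)).obj,
      locT aX u a.obj ⊔ locT aX v a.obj = ⊤ := fun a => by
    refine top_le_iff.1 fun t _ => ?_
    obtain ⟨p, rfl⟩ := (π_surjective a.obj).surj t
    have hp := ((inUnion_iff h aX u v a.obj).1 a.property).ge (Set.mem_univ p)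
    rw [Scheme.Hom.preimage_sup] at hp
    rcases hp with hp | hp
    · exact Or.inl ((mem_locT_iff aX u hu a.obj p).2 hp)
    · exact Or.inr ((mem_locT_iff aX v hv a.obj p).2 hp)
  have hex : ∀ a : (fullSub (ThetaS.overS h (QuotSt Scheme.fppfPrecoverage G aX)) (InUnion h aX u v)).obj,
      ∃ ρ, Glued qS (strQ h aX a.obj) (locT aX u a.obj) (locT aX v a.obj) ρ := fun a =>
    exists_glued qS _ _ _ (hcov a) fun t h₁ h₂ => by
      obtain ⟨p, rfl⟩ := (π_surjective a.obj).surj t
      have := huv _ ((mem_locT_iff aX u hu a.obj p).1 h₁) ((mem_locT_iff aX v hv a.obj p).1 h₂)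
      rwa [← Scheme.Hom.comp_apply, Over.w, ← Over.w a.obj.π, Scheme.Hom.comp_apply] at this
  choose ρ hρ using hex
  have hnat : ∀ {a' a : (fullSub (ThetaS.overS h (QuotSt Scheme.fppfPrecoverage G aX)) (InUnion h aX u v)).obj}
      (m : a' ⟶ a), (Over.map h).map m.hom.base ≫ ρ a = ρ a' := fun {a' a} m => by
    have hpre : ∀ (w : Γ(X.left, ⊤)), aX.act.left ⁻¹ᵁ X.left.basicOpen w = (snd G X).left ⁻¹ᵁ X.left.basicOpen w →
        m.hom.base.left ⁻¹ᵁ locT aX w a.obj = locT aX w a'.obj := fun w hw => by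
      ext t
      obtain ⟨p, rfl⟩ := (π_surjective a'.obj).surj t
      show m.hom.base.left (a'.obj.π.left p) ∈ locT aX w a.obj ↔ _
      rw [← Scheme.Hom.comp_apply, ← Over.comp_left, ← m.hom.cart.w, Over.comp_left, Scheme.Hom.comp_apply]
      refine (mem_locT_iff aX w hw a.obj _).trans (Iff.trans ?_ (mem_locT_iff aX w hw a'.obj p).symm)
      simp only [locP]
      rw [← m.hom.wφ]
      rfl
    refine Glued.eq qS (hcov a') ⟨?_, ?_⟩ (hρ a')
    · have e := hpre u hu
      have : (locT aX u a'.obj).ι ≫ m.hom.base.left =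
          IsOpenImmersion.lift (locT aX u a.obj).ι ((locT aX u a'.obj).ι ≫ m.hom.base.left) (by
            rw [Scheme.Opens.range_ι]
            rintro _ ⟨x, rfl⟩
            exact (SetLike.ext_iff.1 e _).2 x.2) ≫ (locT aX u a.obj).ι := (IsOpenImmersion.lift_fac _ _ _).symm
      show (locT aX u a'.obj).ι ≫ m.hom.base.left ≫ (ρ a).left = _
      rw [reassoc_of% this, (hρ a).fst, ← Category.assoc, ← this, Category.assoc]
      exact congrArg ((locT aX u a'.obj).ι ≫ ·) ((Category.assoc _ _ _).symm.trans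
        (congrArg (· ≫ (j₁ qS).left) (Over.w m.hom.base)))
    · have e := hpre v hv
      have : (locT aX v a'.obj).ι ≫ m.hom.base.left =
          IsOpenImmersion.lift (locT aX v a.obj).ι ((locT aX v a'.obj).ι ≫ m.hom.base.left) (by
            rw [Scheme.Opens.range_ι]
            rintro _ ⟨x, rfl⟩
            exact (SetLike.ext_iff.1 e _).2 x.2) ≫ (locT aX v a.obj).ι := (IsOpenImmersion.lift_fac _ _ _).symm
      show (locT aX v a'.obj).ι ≫ m.hom.base.left ≫ (ρ a).left = _
      rw [reassoc_of% this, (hρ a).snd, ← Category.assoc, ← this, Category.assoc]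
      exact congrArg ((locT aX v a'.obj).ι ≫ ·) ((Category.assoc _ _ _).symm.trans
        (congrArg (· ≫ (j₂ qS).left) (Over.w m.hom.base)))
  exact ⟨ρ, fun a' a m => hnat m, hρ⟩

end Quot

end Groth.Agent.ThetaLift14
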