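import Mathlib.AlgebraicGeometry.Morphisms.Affine
import Mathlib.AlgebraicGeometry.Morphisms.Flat
import Groth.Agent.Lib.Hartogs3.Scheme

/-!
# Extension of morphisms to affine schemes across an open with the same functions
-/

set_option autoImplicit false
set_option backward.isDefEq.respectTransparency false
set_option backward.isDefEq.respectTransparency.types false

universe u

open CategoryTheory CategoryTheory.Limits AlgebraicGeometry Opposite

namespace Groth.Agent.ThetaLift14

theorem existsUnique_extend {U X W : Scheme.{u}} [IsAffine X] [IsAffine W] (ι : U ⟶ X)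
    (h : Function.Bijective ι.appTop.hom) (τ : U ⟶ W) : ∃! σ : X ⟶ W, ι ≫ σ = τ := by
  haveI : IsIso ι.appTop := (ConcreteCategory.isIso_iff_bijective _).2 h
  let σ : X ⟶ W := X.isoSpec.hom ≫ Spec.map (τ.appTop ≫ inv ι.appTop) ≫ W.isoSpec.inv
  have hσ : σ.appTop = τ.appTop ≫ inv ι.appTop := by
    have h1 : σ ≫ W.isoSpec.hom = X.isoSpec.hom ≫ Spec.map (τ.appTop ≫ inv ι.appTop) := by
      simp [σ]
    have h2 : σ ≫ W.isoSpec.hom = X.isoSpec.hom ≫ Spec.map σ.appTop := (Scheme.isoSpec_hom_naturality σ).symm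
    exact Spec.map_injective ((cancel_epi X.isoSpec.hom).1 (h2.symm.trans h1))
  refine ⟨σ, ext_of_isAffine ?_, fun σ' hσ' => ext_of_isAffine ?_⟩
  · rw [Scheme.Hom.comp_appTop, hσ, Category.assoc, IsIso.inv_hom_id, Category.comp_id]
  · have hσ'' : (ι ≫ σ').appTop = τ.appTop := by rw [hσ']
    rw [Scheme.Hom.comp_appTop] at hσ''
    rw [hσ, IsIso.eq_comp_inv]
    exact hσ''

theorem eq_of_injective {U X W : Scheme.{u}} [IsAffine W] (ι : U ⟶ X) (h : Function.Injective ι.appTop.hom)
    {g g' : X ⟶ W} (e : ι ≫ g = ι ≫ g') : g = g' := by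
  refine ext_of_isAffine (CommRingCat.hom_ext (RingHom.ext fun r => h ?_))
  have := congrArg (fun k : U ⟶ W => k.appTop r) e
  simpa using this

theorem bijective_ι_appTop {X : Scheme.{u}} (U : X.Opens)
    (h : Function.Bijective (X.presheaf.map (homOfLE (le_top : U ≤ ⊤)).op)) :
    Function.Bijective U.ι.appTop.hom := by
  have e : U.ι.appTop ≫ U.topIso.hom = X.presheaf.map (homOfLE (le_top : U ≤ ⊤)).op := by
    rw [Scheme.Opens.ι_appTop, Scheme.Opens.topIso, Functor.mapIso_hom, ← Functor.map_comp]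
    rfl
  rw [show U.ι.appTop = X.presheaf.map (homOfLE (le_top : U ≤ ⊤)).op ≫ U.topIso.inv from (Iso.eq_comp_inv _).2 e]
  exact ((ConcreteCategory.isIso_iff_bijective U.topIso.inv).1 inferInstance).comp h

theorem injective_basicOpen_ι {X : Scheme.{u}} [IsAffine X] (u : Γ(X, ⊤)) (hu : IsSMulRegular Γ(X, ⊤) u) :
    Function.Injective (X.basicOpen u).ι.appTop.hom := by
  have hres : Function.Injective (X.presheaf.map (homOfLE (le_top : X.basicOpen u ≤ ⊤)).op).hom := by
    refine (injective_iff_map_eq_zero _).2 fun r hr => ?_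
    obtain ⟨n, hn⟩ := Hartogs3.res_pow_eq_zero (isAffineOpen_top X) u r hr
    exact (hu.pow n) (show u ^ n • r = u ^ n • (0 : Γ(X, ⊤)) by rw [smul_zero]; exact hn)
  intro r s hrs
  refine hres ?_
  have e : (X.basicOpen u).ι.appTop ≫ (X.basicOpen u).topIso.hom =
      X.presheaf.map (homOfLE (le_top : X.basicOpen u ≤ ⊤)).op := by
    rw [Scheme.Opens.ι_appTop, Scheme.Opens.topIso, Functor.mapIso_hom, ← Functor.map_comp]
    rfl
  rw [← e]
  simp only [CommRingCat.hom_comp, RingHom.comp_apply, hrs]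

theorem isSMulRegular_appTop {X Y : Scheme.{u}} [IsAffine X] [IsAffine Y] (f : X ⟶ Y) [Flat f] (u : Γ(Y, ⊤))
    (hu : IsSMulRegular Γ(Y, ⊤) u) : IsSMulRegular Γ(X, ⊤) (f.appTop u) := by
  letI := f.appTop.hom.toAlgebra
  haveI : Module.Flat Γ(Y, ⊤) Γ(X, ⊤) := f.flat_appTop
  exact IsSMulRegular.of_flat hu

end Groth.Agent.ThetaLift14
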