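import Groth.Agent.Lib.ThetaLift14.Abstract
import Groth.Agent.Lib.ThetaLift14.Ext
import Groth.Agent.Lib.Quot16.Local
import Groth.Agent.Lib.FC16.Comp
import Groth.Prelude.Def_ThetaS

/-!
# The chart `X ⟶ [X/G]` as a lifting chart
-/

set_option autoImplicit false
set_option backward.isDefEq.respectTransparency false
set_option backward.isDefEq.respectTransparency.types false

universe u

open CategoryTheory CategoryTheory.Limits MonoidalCategory CartesianMonoidalCategory MonObj AlgebraicGeometry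

namespace Groth.Agent.ThetaLift14

open AlgSt Groth.Agent.Quot16

variable {S S' : Scheme.{u}} (h : S' ⟶ S)

theorem overMap_isFibGrpd : FibCat.IsFibGrpd (Over.map h) where
  exists_lift {x V} f := by
    let y : Over S' := Over.mk (f.left ≫ x.hom)
    let φ : y ⟶ x := Over.homMk f.left rfl
    have e : (Over.map h).obj y = V := by
      have hw : (f.left ≫ x.hom) ≫ h = V.hom := by
        rw [Category.assoc]
        exact Over.w f
      exact congrArg (fun k : V.left ⟶ S => Over.mk k) hw
    refine ⟨y, φ, IsHomLift.of_fac' (Over.map h) f φ e rfl ?_⟩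
    apply Over.OverMorphism.ext
    simp only [Over.comp_left, Over.map_map_left, eqToHom_refl, Over.id_left, Category.comp_id, φ, Over.homMk_left]
    have : (eqToHom e).left = 𝟙 _ := by
      rw [Over.eqToHom_left, eqToHom_refl]
    rw [this]
    exact (Category.id_comp _).symm
  isStronglyCartesian {y x} φ :=
    { toIsHomLift := IsHomLift.map _ φ
      universal_property' := fun {a} g ψ hψ => by
        haveI := hψ
        have e : ((Over.map h).map ψ).left = g.left ≫ φ.left := by
          rw [← IsHomLift.eq_of_isHomLift (Over.map h) (g ≫ (Over.map h).map φ) ψ]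
          simp
        simp only [Over.map_map_left] at e
        let χ : a ⟶ y := Over.homMk g.left (by
          rw [← Over.w φ, ← Category.assoc]
          exact (congrArg (· ≫ x.hom) e.symm).trans (Over.w ψ))
        refine ⟨χ, ⟨?_, Over.OverMorphism.ext e.symm⟩, fun χ' ⟨hχ', _⟩ => Over.OverMorphism.ext ?_⟩
        · refine IsHomLift.of_fac' (Over.map h) g χ rfl rfl ?_
          apply Over.OverMorphism.ext
          simp [χ]
        · haveI := hχ'
          have := congrArg CommaMorphism.left (IsHomLift.eq_of_isHomLift (Over.map h) g χ')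
          exact this.symm }

variable {G : Over S'} [GrpObj G] {X : Over S'} (aX : AlgGrp.Action G X)

/-- The objects whose map to `X` lands in `D(u) ∪ D(v)`. -/
def InUnion (u v : Γ(X.left, ⊤)) (A : (ThetaS.overS h (QuotSt Scheme.fppfPrecoverage G aX)).obj) : Prop :=
  A.P.left.basicOpen (A.φ.left.appTop u) ⊔ A.P.left.basicOpen (A.φ.left.appTop v) = ⊤

theorem inUnion_iff (u v : Γ(X.left, ⊤)) (A : QuotObj Scheme.fppfPrecoverage G aX) :
    InUnion h aX u v A ↔ A.φ.left ⁻¹ᵁ (X.left.basicOpen u ⊔ X.left.basicOpen v) = ⊤ := by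
  rw [InUnion, Scheme.Hom.preimage_sup, Scheme.preimage_basicOpen_top, Scheme.preimage_basicOpen_top]

theorem inUnion_triv {u v : Γ(X.left, ⊤)}
    (hu : aX.act.left ⁻¹ᵁ X.left.basicOpen u = (snd G X).left ⁻¹ᵁ X.left.basicOpen u)
    (hv : aX.act.left ⁻¹ᵁ X.left.basicOpen v = (snd G X).left ⁻¹ᵁ X.left.basicOpen v)
    {W : Over S'} (x : W ⟶ X) (hx : x.left ⁻¹ᵁ (X.left.basicOpen u ⊔ X.left.basicOpen v) = ⊤) :
    InUnion h aX u v (triv Scheme.fppfPrecoverage aX x) := by
  rw [inUnion_iff, triv_φ, Over.comp_left, Scheme.Hom.comp_preimage, Scheme.Hom.preimage_sup, hu, hv,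
    ← Scheme.Hom.preimage_sup, ← Scheme.Hom.comp_preimage, ← Over.comp_left, whiskerLeft_snd, Over.comp_left,
    Scheme.Hom.comp_preimage, hx]
  rfl

variable [Flat G.hom] [LocallyOfFinitePresentation G.hom] [IsAffineHom G.hom] [IsAffine X.left]

/-- Hartogs makes `X ⟶ [X/G]` a lifting chart for the open substack of `D(u) ∪ D(v)`. -/
theorem chart_quot (u v : Γ(X.left, ⊤))
    (hu : aX.act.left ⁻¹ᵁ X.left.basicOpen u = (snd G X).left ⁻¹ᵁ X.left.basicOpen u)
    (hv : aX.act.left ⁻¹ᵁ X.left.basicOpen v = (snd G X).left ⁻¹ᵁ X.left.basicOpen v)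
    (hb : Function.Bijective
      (X.left.presheaf.map (homOfLE (le_top : X.left.basicOpen u ⊔ X.left.basicOpen v ≤ ⊤)).op))
    (hr : IsSMulRegular Γ(X.left, ⊤) u) :
    Chart (ThetaS.overS h (QuotSt Scheme.fppfPrecoverage G aX)) (InUnion h aX u v)
      (triv Scheme.fppfPrecoverage aX (𝟙 X)) := by
  let ℬ := ThetaS.overS h (QuotSt Scheme.fppfPrecoverage G aX)
  let K := Scheme.fppfPrecoverage.{u}
  let B₀ : QuotObj K G aX := triv K aX (𝟙 X)
  let U : X.left.Opens := X.left.basicOpen u ⊔ X.left.basicOpen v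
  have hφ₀ : B₀.φ = aX.act := by
    show (G ◁ 𝟙 X) ≫ aX.act = _
    rw [MonoidalCategory.whiskerLeft_id, Category.id_comp]
  have mapTriv : ∀ {W : Over S'} (b : W ⟶ X), ∃ n : triv K aX b ⟶ B₀, n.base = b := fun {W} b =>
    ⟨(quotMap K G aX).map ((ofOverCat X).map (Over.homMk b (Category.comp_id b) : Over.mk b ⟶ Over.mk (𝟙 X))), rfl⟩
  have fibQ : FibCat.IsFibGrpd (QuotSt K G aX).p := Quot16.isFibGrpd
  refine { fib := FC16.isFibGrpd_comp fibQ (overMap_isFibGrpd h), closed := ?_, cover := ?_, ext := ?_, sep := ?_ }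
  · intro C B m hB
    rw [inUnion_iff] at hB ⊢
    rw [← m.wφ, Over.comp_left, Scheme.Hom.comp_preimage, hB]
    rfl
  · intro A
    obtain ⟨n, -⟩ := mapTriv A.φ
    refine ⟨triv K aX A.φ, homOfPt A (𝟙 A.P) (Category.id_comp _), n, ?_⟩
    have hbase : (ℬ.p.map (homOfPt A (𝟙 A.P) (Category.id_comp _) : triv K aX A.φ ⟶ A)).left = A.π.left :=
      congrArg CommaMorphism.left (Category.id_comp A.π)
    rw [hbase]
    haveI := π_isAffineHom A
    exact ⟨π_flat A, π_surjective A, inferInstance⟩
  · intro W q hq τ hτq hτnat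
    haveI := hq
    let UX : Over S' := Over.mk (U.ι ≫ X.hom)
    let ιU : UX ⟶ X := Over.homMk U.ι rfl
    obtain ⟨n₀, hn₀⟩ := mapTriv ιU
    have ha₀ : InUnion h aX u v (triv K aX ιU) := inUnion_triv h aX hu hv ιU U.ι_preimage_self
    haveI : IsAffine W.left := @isAffine_of_isAffineHom _ _ q.left hq ‹IsAffine X.left›
    have hbij := bijective_ι_appTop U hb
    obtain ⟨σ₀, hσ₀, hσu⟩ := existsUnique_extend U.ι hbij (τ (triv K aX ιU) ha₀ n₀).left
    have hι : U.ι ≫ σ₀ ≫ q.left = U.ι := by
      rw [reassoc_of% hσ₀]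
      refine (congrArg CommaMorphism.left (hτq _ ha₀ n₀)).trans ?_
      exact congrArg CommaMorphism.left hn₀
    have hσq : σ₀ ≫ q.left = 𝟙 X.left :=
      (existsUnique_extend U.ι hbij U.ι).unique hι (Category.comp_id _)
    let σ : (Over.map h).obj X ⟶ W := Over.homMk σ₀ (by
      have := Over.w q
      show σ₀ ≫ W.hom = _
      rw [← this, ← Category.assoc, hσq]
      exact Category.id_comp _)
    refine ⟨σ, ⟨Over.OverMorphism.ext hσq, fun a ha m => ?_⟩, fun σ' hσ' => ?_⟩
    · have hsurj := π_surjective a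
      have h1 : m.base.left ⁻¹ᵁ U = ⊤ := by
        have ha' := (inUnion_iff h aX u v a).1 ha
        rw [← m.wφ, show (triv K aX (𝟙 X)).φ = aX.act from hφ₀, Over.comp_left, Scheme.Hom.comp_preimage,
          Scheme.Hom.preimage_sup, hu, hv, ← Scheme.Hom.preimage_sup, ← Scheme.Hom.comp_preimage, ← Over.comp_left,
          show m.top ≫ snd G X = a.π ≫ m.base from m.cart.w, Over.comp_left, Scheme.Hom.comp_preimage] at ha'
        refine top_le_iff.1 fun t _ => ?_
        obtain ⟨p, rfl⟩ := hsurj.surj t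
        exact (ha'.ge (Set.mem_univ p) :)
      have hrange : Set.range m.base.left ⊆ Set.range U.ι := by
        rw [Scheme.Opens.range_ι]
        rintro _ ⟨p, rfl⟩
        exact (h1.ge (Set.mem_univ p) :)
      let b₁ : a.base ⟶ UX := Over.homMk (IsOpenImmersion.lift U.ι m.base.left hrange) (by
        show _ ≫ U.ι ≫ X.hom = _
        rw [IsOpenImmersion.lift_fac_assoc]
        exact Over.w m.base)
      have hb₁ : b₁ ≫ ιU = m.base := Over.OverMorphism.ext (IsOpenImmersion.lift_fac _ _ _)
      haveI := isStronglyCartesian_hom n₀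
      haveI : (QuotSt K G aX).p.IsHomLift m.base m := IsHomLift.map (QuotSt K G aX).p m
      let m₁ : a ⟶ triv K aX ιU := Functor.IsStronglyCartesian.map (QuotSt K G aX).p
        ((QuotSt K G aX).p.map n₀) n₀ (g := b₁) (f' := m.base)
        (by rw [← hb₁]; exact congrArg (b₁ ≫ ·) hn₀.symm) m
      have hm₁ : m₁ ≫ n₀ = m := Functor.IsStronglyCartesian.fac _ _ _ _ _
      rw [← hm₁, hτnat _ _ ha ha₀ m₁ n₀, ℬ.p.map_comp, Category.assoc]
      refine congrArg (ℬ.p.map m₁ ≫ ·) (Over.OverMorphism.ext ?_)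
      show n₀.base.left ≫ σ₀ = _
      rw [hn₀]
      exact hσ₀
    · refine Over.OverMorphism.ext (hσu σ'.left ?_)
      have := congrArg CommaMorphism.left (hσ'.2 _ ha₀ n₀)
      refine Eq.trans ?_ this
      show U.ι ≫ σ'.left = n₀.base.left ≫ σ'.left
      rw [hn₀]
      rfl
  · intro C m m'
    let bm : triv K aX m'.base ⟶ B₀ :=
      (quotMap K G aX).map ((ofOverCat X).map (Over.homMk m'.base (Category.comp_id _) : Over.mk m'.base ⟶ Over.mk (𝟙 X)))
    have hbm : bm.base = m'.base := rfl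
    haveI := isStronglyCartesian_hom bm
    haveI : (QuotSt K G aX).p.IsHomLift m'.base m' := IsHomLift.map (QuotSt K G aX).p m'
    let j : C ⟶ triv K aX m'.base := Functor.IsStronglyCartesian.map (QuotSt K G aX).p
      ((QuotSt K G aX).p.map bm) bm (g := 𝟙 C.base) (f' := m'.base)
      (by exact ((Category.id_comp _).trans hbm).symm) m'
    have hj : j ≫ bm = m' := Functor.IsStronglyCartesian.fac _ _ _ _ _
    haveI : (QuotSt K G aX).p.IsHomLift (𝟙 C.base) j := inferInstance
    haveI : IsIso j := FC16.isIso_of_isHomLift fibQ (𝟙 C.base) j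
    let m₂ : triv K aX m'.base ⟶ B₀ := inv j ≫ m
    let σ : C.base ⟶ G ⊗ X := sec m₂
    have hσ : σ ≫ aX.act = m'.base := by
      rw [← hφ₀]
      exact sec_φ m₂
    let n : triv K aX aX.act ⟶ B₀ := homOfPt B₀ (𝟙 (G ⊗ X)) ((Category.id_comp _).trans hφ₀)
    let n' : triv K aX aX.act ⟶ B₀ :=
      (quotMap K G aX).map ((ofOverCat X).map (Over.homMk aX.act (Category.comp_id _) : Over.mk aX.act ⟶ Over.mk (𝟙 X)))
    let kO : Over.mk m'.base ⟶ Over.mk aX.act := Over.homMk σ hσ
    let k₀ : triv K aX m'.base ⟶ triv K aX aX.act := (quotMap K G aX).map ((ofOverCat X).map kO)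
    have hk₁ : k₀ ≫ n = m₂ := by
      refine hom_ext_sec ?_
      refine (sec_precomp kO n).trans ((congrArg (σ ≫ ·) (sec_homOfPt B₀ _ _)).trans ?_)
      exact Category.comp_id σ
    have hk₂ : k₀ ≫ n' = bm := by
      refine ((quotMap K G aX).map_comp _ _).symm.trans (congrArg (quotMap K G aX).map ?_)
      rw [← (ofOverCat X).map_comp]
      exact congrArg (ofOverCat X).map (Over.OverMorphism.ext hσ)
    refine ⟨triv K aX aX.act, j ≫ k₀, n, n', ?_, ?_, ?_⟩
    · rw [Category.assoc, hk₁]
      exact IsIso.hom_inv_id_assoc j m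
    · rw [Category.assoc, hk₂, hj]
    · intro W q hq g g' hg hg' hagree
      haveI := hq
      haveI : IsAffineHom (snd G X).left := snd_left_prop (P := @IsAffineHom) ‹_› X
      haveI : IsAffine (G ⊗ X).left := isAffine_of_isAffineHom (snd G X).left
      haveI : IsAffine W.left := @isAffine_of_isAffineHom _ _ q.left hq ‹IsAffine (G ⊗ X).left›
      haveI : Flat (snd G X).left := snd_left_prop (P := @Flat) ‹_› X
      let u' : Γ((G ⊗ X).left, ⊤) := (snd G X).left.appTop u
      let D : (G ⊗ X).left.Opens := (G ⊗ X).left.basicOpen u'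
      let DO : Over S' := Over.mk (D.ι ≫ (G ⊗ X).hom)
      let ιD : DO ⟶ G ⊗ X := Over.homMk D.ι rfl
      have hD : InUnion h aX u v (triv K aX (ιD ≫ aX.act)) := by
        refine inUnion_triv h aX hu hv _ ?_
        rw [Over.comp_left, Scheme.Hom.comp_preimage, eq_top_iff]
        refine le_trans ?_ (Scheme.Hom.preimage_mono _ (Scheme.Hom.preimage_mono _ le_sup_left))
        rw [hu, Scheme.preimage_basicOpen_top]
        exact D.ι_preimage_self.ge
      let i : triv K aX (ιD ≫ aX.act) ⟶ triv K aX aX.act :=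
        (quotMap K G aX).map ((ofOverCat X).map (Over.homMk ιD rfl : Over.mk (ιD ≫ aX.act) ⟶ Over.mk aX.act))
      refine Over.OverMorphism.ext (eq_of_injective D.ι
        (injective_basicOpen_ι u' (isSMulRegular_appTop _ u hr)) ?_)
      exact congrArg CommaMorphism.left (hagree _ hD i)

end Groth.Agent.ThetaLift14
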