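import Groth.Agent.Lib.ThetaLift14.Affine
import Groth.Agent.Lib.ThetaLift14.Inst
import Groth.Agent.Lib.StAlg16.DiagIff
import Groth.Agent.Lib.StAlg.Rep

/-!
# Uniqueness of dotted arrows against separated representable morphisms
-/

set_option autoImplicit false
set_option backward.isDefEq.respectTransparency false
set_option backward.isDefEq.respectTransparency.types false

universe u

open CategoryTheory CategoryTheory.Limits MonoidalCategory CartesianMonoidalCategory AlgebraicGeometry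
open scoped Polynomial

namespace Groth.Agent.ThetaLift14

variable {S : Scheme.{u}} {𝒳 𝒴 𝒜 ℬ : AlgSt.Cat S} {f : 𝒳 ⥤ᵇ 𝒴} {bot : ℬ ⥤ᵇ 𝒴}

/-- The locus over which two objects over the same image agree is closed. -/
theorem exists_locus (h𝒳 : FibCat.IsFibGrpd 𝒳.p) (h𝒴 : FibCat.IsFibGrpd 𝒴.p)
    (hd : AlgSt.IsClosedImm (FibCat.diag f)) {B : ℬ.obj} (L L' : At f bot B) :
    ∃ (Z : Over S) (q : Z ⟶ ℬ.p.obj B), IsClosedImmersion q.left ∧ (IsIso q → Mor L L' (𝟙 B)) ∧
      ∀ (C : ℬ.obj) (m : C ⟶ B) (M : At f bot C), Mor M L m → Mor M L' m → ∃ g, g ≫ q = ℬ.p.map m := by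
  haveI := isIso_ι h𝒴 L
  haveI := isIso_ι h𝒴 L'
  haveI := L.hι
  haveI := L'.hι
  let φ : f.obj L.x ≅ f.obj L'.x := asIso L.ι ≪≫ (asIso L'.ι).symm
  have hφ : 𝒴.p.IsHomLift (𝟙 (ℬ.p.obj B)) φ.hom := by
    have h : 𝒴.p.IsHomLift (𝟙 (ℬ.p.obj B) ≫ 𝟙 (ℬ.p.obj B)) (L.ι ≫ inv L'.ι) := inferInstance
    rw [Category.id_comp] at h
    exact h
  let P : (FibCat.fp f f).obj := FC16.fpObj L.x L'.x φ L.x_p hφ
  obtain ⟨T, hT⟩ := exists_term_of_rep (FC16.fp_isFibGrpd h𝒳 h𝒳 h𝒴 f f)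
    (fun _ _ g (_ : IsClosedImmersion g) => (inferInstance : IsAffineHom g)) hd P (ℬ.p.obj B) L.x_p
  haveI := T.hν
  haveI h1 : 𝒳.p.IsHomLift T.q T.ν.hom.fst := FC16.isHomLift_fst T.q T.ν
  refine ⟨𝒳.p.obj T.w, T.q, hT, fun hq => ?_, fun C m M hM hM' => ?_⟩
  · haveI := hq
    haveI : IsIso T.ν.hom.fst := FC16.isIso_of_isHomLift h𝒳 T.q T.ν.hom.fst
    refine ⟨inv T.ν.hom.fst ≫ T.ν.hom.snd, ?_⟩
    have h2 : f.map T.ν.hom.fst ≫ φ.hom = f.map T.ν.hom.snd :=
      (FC16.fp_w T.ν).trans (Category.id_comp _)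
    rw [Functor.map_comp, Functor.map_inv, Category.assoc, IsIso.inv_comp_eq, ← h2, Category.assoc]
    refine congrArg (f.map T.ν.hom.fst ≫ ·) ?_
    show (L.ι ≫ inv L'.ι) ≫ L'.ι = L.ι ≫ bot.map (𝟙 B)
    rw [Category.assoc, IsIso.inv_hom_id, CategoryTheory.Functor.map_id]
  · obtain ⟨θ₁, e₁⟩ := hM
    obtain ⟨θ₂, e₂⟩ := hM'
    haveI h3 := mor_lift h𝒴 e₁
    let ψ : (FibCat.diag f).obj M.x ⟶ P := FC16.fpHom θ₁ θ₂ (by
      show f.map θ₁ ≫ L.ι ≫ inv L'.ι = 𝟙 _ ≫ f.map θ₂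
      rw [reassoc_of% e₁, Category.id_comp, ← reassoc_of% e₂, IsIso.hom_inv_id, Category.comp_id])
    obtain ⟨θ, hθ, -⟩ := T.uniq M.x ψ
    have h4 : θ ≫ T.ν.hom.fst = θ₁ := congrArg (fun t => t.hom.fst) hθ
    refine ⟨eqToHom M.x_p.symm ≫ 𝒳.p.map θ, ?_⟩
    haveI : 𝒳.p.IsHomLift (eqToHom M.x_p.symm ≫ 𝒳.p.map θ) θ :=
      IsHomLift.of_fac' 𝒳.p _ θ M.x_p rfl (by simp)
    have h5 : 𝒳.p.IsHomLift ((eqToHom M.x_p.symm ≫ 𝒳.p.map θ) ≫ T.q) (θ ≫ T.ν.hom.fst) := inferInstance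
    rw [h4] at h5
    exact FC16.isHomLift_unique (p := 𝒳.p) _ _ θ₁

/-- Uniqueness of dotted arrows, from one chart on which the given functor is schematically dense. -/
theorem liftsUnique_of_dense (h𝒳 : FibCat.IsFibGrpd 𝒳.p) (h𝒴 : FibCat.IsFibGrpd 𝒴.p)
    (hd : AlgSt.IsClosedImm (FibCat.diag f)) (hff : f.toFunctor.Faithful) (j : 𝒜 ⥤ᵇ ℬ) (B₀ : ℬ.obj)
    (cover : ∀ B : ℬ.obj, ∃ (C : ℬ.obj) (π : C ⟶ B) (_ : C ⟶ B₀),
      Flat (ℬ.p.map π).left ∧ Surjective (ℬ.p.map π).left ∧ QuasiCompact (ℬ.p.map π).left)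
    (dense : ∃ (a : 𝒜.obj) (C : ℬ.obj) (_ : C ⟶ j.obj a) (n : C ⟶ B₀), ∀ {Z : Over S} (q : Z ⟶ ℬ.p.obj B₀),
      IsClosedImmersion q.left → ∀ g, g ≫ q = ℬ.p.map n → IsIso q) :
    LiftSq.LiftsUnique j f := by
  haveI := hff
  intro sq d d'
  let At' : sq.Lift → ∀ B, At f sq.bot B := fun d B =>
    ⟨d.fn.obj B, d.isoBot.inv.toNatTrans.app B, d.isoBot.inv.isHomLift' B⟩
  have hd' : ∀ (d : sq.Lift) {B' B : ℬ.obj} (m : B' ⟶ B), Mor (At' d B') (At' d B) m := fun d B' B m =>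
    ⟨d.fn.map m, d.isoBot.inv.toNatTrans.naturality m⟩
  let topA : ∀ a : 𝒜.obj, At f sq.bot (j.obj a) := fun a =>
    ⟨sq.top.obj a, sq.iso.inv.toNatTrans.app a, by
      rw [j.w_obj a]
      exact sq.iso.inv.isHomLift' a⟩
  have hdtop : ∀ (d : sq.Lift) (a : 𝒜.obj), Mor (topA a) (At' d (j.obj a)) (𝟙 (j.obj a)) := by
    intro d a
    refine ⟨d.isoTop.inv.toNatTrans.app a, ?_⟩
    show f.map (d.isoTop.inv.toNatTrans.app a) ≫ d.isoBot.inv.toNatTrans.app (j.obj a) =
      sq.iso.inv.toNatTrans.app a ≫ sq.bot.map (𝟙 (j.obj a))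
    refine Eq.trans ?_ ((congrArg (_ ≫ ·) (sq.bot.map_id _)).trans (Category.comp_id _)).symm
    let i₂ : sq.iso.hom ≫ (BasedCategory.whiskerRight d.isoTop.inv f ≫
        BasedCategory.whiskerLeft j d.isoBot.inv) = 𝟙 _ := by
      rw [← d.w, Category.assoc, ← Category.assoc (BasedCategory.whiskerRight _ f),
        ← LiftSq.whiskerRight_comp', d.isoTop.hom_inv_id, LiftSq.whiskerRight_id', Category.id_comp,
        ← LiftSq.whiskerLeft_comp', d.isoBot.hom_inv_id, LiftSq.whiskerLeft_id']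
    exact congrArg (fun t => t.toNatTrans.app a) ((Iso.hom_comp_eq_id sq.iso).1 i₂)
  have hj : ∀ a : 𝒜.obj, Mor (At' d (j.obj a)) (At' d' (j.obj a)) (𝟙 _) := by
    intro a
    obtain ⟨θ, eθ⟩ := hdtop d a
    obtain ⟨θ', eθ'⟩ := hdtop d' a
    haveI := mor_lift h𝒴 eθ
    haveI : IsIso θ := FC16.isIso_of_isHomLift h𝒳 (ℬ.p.map (𝟙 (j.obj a))) θ
    refine ⟨inv θ ≫ θ', ?_⟩
    rw [Functor.map_comp, Functor.map_inv, Category.assoc, eθ', IsIso.inv_comp_eq]
    refine (congrArg (_ ≫ ·) (sq.bot.map_id _)).trans ?_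
    rw [Category.comp_id, CategoryTheory.Functor.map_id]
    refine Eq.trans ?_ (congrArg (f.map θ ≫ ·) (Category.comp_id _)).symm
    exact ((Category.comp_id _).symm.trans (congrArg (_ ≫ ·) (sq.bot.map_id _).symm)).trans eθ.symm
  have h₀ : Mor (At' d B₀) (At' d' B₀) (𝟙 B₀) := by
    obtain ⟨a, C, m, n, hn⟩ := dense
    obtain ⟨Z, q, hq, hiso, hfac⟩ := exists_locus h𝒳 h𝒴 hd (At' d B₀) (At' d' B₀)
    have h1 : Mor (At' d C) (At' d' (j.obj a)) ((𝟙 C) ≫ m) := by
      have := (hd' d m).comp (hj a)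
      rwa [Category.comp_id, ← Category.id_comp m] at this
    have h2 : Mor (At' d C) (At' d' B₀) n := by
      have := (h1.factor h𝒳 h𝒴 (hd' d' m)).comp (hd' d' n)
      rwa [Category.id_comp] at this
    obtain ⟨g, hg⟩ := hfac C n (At' d C) (hd' d n) h2
    exact hiso (hn q hq g hg)
  have hall : ∀ B, Mor (At' d B) (At' d' B) (𝟙 B) := by
    intro B
    obtain ⟨C, π, π₀, _, _, _⟩ := cover B
    have h1 : Mor (At' d C) (At' d' B₀) ((𝟙 C) ≫ π₀) := by
      have := (hd' d π₀).comp h₀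
      rwa [Category.comp_id, ← Category.id_comp π₀] at this
    have h2 : Mor (At' d C) (At' d' B) π := by
      have := (h1.factor h𝒳 h𝒴 (hd' d' π₀)).comp (hd' d' π)
      rwa [Category.id_comp] at this
    obtain ⟨Z, q, hq, hiso, hfac⟩ := exists_locus h𝒳 h𝒴 hd (At' d B) (At' d' B)
    obtain ⟨g, hg⟩ := hfac C π (At' d C) (hd' d π) h2
    haveI := hq
    haveI : Mono q := by
      haveI : Mono q.left := inferInstance
      exact Over.mono_of_mono_left _
    obtain ⟨s, hs⟩ := existsUnique_desc (ℬ.p.map π) g (fun a b hab => by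
      rw [← cancel_mono q, Category.assoc, Category.assoc, hg, hab])
    have hsq : s ≫ q = 𝟙 _ := eq_of_cover (ℬ.p.map π) (by rw [reassoc_of% hs, hg, Category.comp_id])
    exact hiso ⟨s, by rw [← cancel_mono q, Category.assoc, hsq, Category.comp_id, Category.id_comp], hsq⟩
  choose χ hχ using hall
  have hχ' : ∀ B, d.isoBot.hom.toNatTrans.app B ≫ f.map (χ B) = d'.isoBot.hom.toNatTrans.app B := by
    intro B
    have e := hχ B
    rw [CategoryTheory.Functor.map_id, Category.comp_id] at e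
    change f.map (χ B) ≫ d'.isoBot.inv.toNatTrans.app B = d.isoBot.inv.toNatTrans.app B at e
    have a1 : d.isoBot.hom.toNatTrans.app B ≫ d.isoBot.inv.toNatTrans.app B = 𝟙 _ :=
      congrArg (fun t => t.toNatTrans.app B) d.isoBot.hom_inv_id
    have a2 : d'.isoBot.inv.toNatTrans.app B ≫ d'.isoBot.hom.toNatTrans.app B = 𝟙 _ :=
      congrArg (fun t => t.toNatTrans.app B) d'.isoBot.inv_hom_id
    calc d.isoBot.hom.toNatTrans.app B ≫ f.map (χ B)
        = d.isoBot.hom.toNatTrans.app B ≫ (f.map (χ B) ≫ d'.isoBot.inv.toNatTrans.app B) ≫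
            d'.isoBot.hom.toNatTrans.app B := by
          rw [Category.assoc, a2]; exact congrArg (_ ≫ ·) (Category.comp_id _).symm
      _ = d'.isoBot.hom.toNatTrans.app B := by rw [e, reassoc_of% a1]
  have hcancel : ∀ (B : ℬ.obj) {W : 𝒴.obj} (v w : f.obj (d.fn.obj B) ⟶ W),
      d.isoBot.hom.toNatTrans.app B ≫ v = d.isoBot.hom.toNatTrans.app B ≫ w → v = w := fun B W v w hvw => by
    have a1 : d.isoBot.inv.toNatTrans.app B ≫ d.isoBot.hom.toNatTrans.app B = 𝟙 _ :=
      congrArg (fun t => t.toNatTrans.app B) d.isoBot.inv_hom_id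
    have := congrArg (d.isoBot.inv.toNatTrans.app B ≫ ·) hvw
    simp only [reassoc_of% a1] at this
    exact this
  let η : d.fn ⟶ d'.fn :=
    { app := χ
      naturality := fun B' B m => f.toFunctor.map_injective (by
        refine hcancel B' _ _ ?_
        rw [Functor.map_comp, Functor.map_comp, reassoc_of% hχ']
        have n1 := d.isoBot.hom.toNatTrans.naturality m
        have n2 := d'.isoBot.hom.toNatTrans.naturality m
        refine Eq.trans ?_ n2
        rw [← hχ' B]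
        exact ((Category.assoc _ _ _).symm.trans (congrArg (· ≫ f.map (χ B)) n1.symm)).trans (Category.assoc _ _ _))
      isHomLift' := fun B => by
        haveI := mor_lift h𝒴 (hχ B)
        rw [← ℬ.p.map_id]
        infer_instance }
  let θ : d ⟶ d' :=
    { hom := η
      w_top := hom_ext' fun a => f.toFunctor.map_injective (by
        show f.map (χ (j.obj a) ≫ d'.isoTop.hom.toNatTrans.app a) = f.map (d.isoTop.hom.toNatTrans.app a)
        have w1 := congrArg (fun t => t.toNatTrans.app a) d.w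
        have w2 := congrArg (fun t => t.toNatTrans.app a) d'.w
        change d.isoBot.hom.toNatTrans.app (j.obj a) ≫ f.map (d.isoTop.hom.toNatTrans.app a) = _ at w1
        change d'.isoBot.hom.toNatTrans.app (j.obj a) ≫ f.map (d'.isoTop.hom.toNatTrans.app a) = _ at w2
        refine hcancel (j.obj a) _ _ ?_
        rw [Functor.map_comp, reassoc_of% hχ', w2, w1])
      w_bot := hom_ext' hχ' }
  refine ⟨{ default := θ, uniq := fun θ' => ?_ }⟩
  refine LiftSq.Sq.Lift.hom_ext (hom_ext' fun B => f.toFunctor.map_injective (hcancel B _ _ ?_))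
  have e1 : d.isoBot.hom.toNatTrans.app B ≫ f.map (θ'.hom.toNatTrans.app B) = d'.isoBot.hom.toNatTrans.app B :=
    congrArg (fun t => t.toNatTrans.app B) θ'.w_bot
  exact e1.trans (hχ' B).symm

section Theta

open AlgSt ThetaS Groth.Agent.Quot16

variable (R : Type u) [CommRing R]

theorem isIso_of_injective_factor {B K : Type u} [CommRing B] [CommRing K] (φ : B →+* K)
    (hφ : Function.Injective φ) {Z : Scheme.{u}} (q : Z ⟶ Spec (CommRingCat.of B)) [IsClosedImmersion q]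
    (g : Spec (CommRingCat.of K) ⟶ Z) (hg : g ≫ q = Spec.map (CommRingCat.ofHom φ)) : IsIso q := by
  refine IsClosedImmersion.isIso_of_injective_of_isAffine fun x y hxy => ?_
  have h := congrArg g.appTop hxy
  rw [← ConcreteCategory.comp_apply, ← ConcreteCategory.comp_apply, ← Scheme.Hom.comp_appTop, hg] at h
  obtain ⟨x, rfl⟩ := ((ConcreteCategory.isIso_iff_bijective (Scheme.ΓSpecIso (CommRingCat.of B)).inv).1 inferInstance).2 x
  obtain ⟨y, rfl⟩ := ((ConcreteCategory.isIso_iff_bijective (Scheme.ΓSpecIso (CommRingCat.of B)).inv).1 inferInstance).2 y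
  rw [← ConcreteCategory.comp_apply, ← ConcreteCategory.comp_apply,
    ← Scheme.ΓSpecIso_inv_naturality, ConcreteCategory.comp_apply, ConcreteCategory.comp_apply] at h
  exact congrArg _ (hφ (((ConcreteCategory.isIso_iff_bijective (Scheme.ΓSpecIso (CommRingCat.of K)).inv).1 inferInstance).1 h))

theorem linePt_zPow_injective : Function.Injective (linePt (zPow R 1) : R[X] →ₐ[R] Lau R) := by
  have e : ∀ (p : R[X]) (n : ℕ), (linePt (zPow R 1) p).coeff (Multiplicative.ofAdd (n : ℤ)) = p.coeff n := by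
    intro p n
    induction p using Polynomial.induction_on' with
    | add a b ha hb => simp [map_add, ha, hb]
    | monomial k r =>
      simp [linePt, Polynomial.aeval_monomial, MonoidAlgebra.single_pow, Polynomial.coeff_monomial,
        Finsupp.single_apply, ← ofAdd_nsmul]
  intro p q hpq
  ext n
  rw [← e p n, ← e q n, hpq]

theorem liftsUnique_thetaOne {f : 𝒳 ⥤ᵇ 𝒴} (h𝒳 : FibCat.IsFibGrpd 𝒳.p) (h𝒴 : FibCat.IsFibGrpd 𝒴.p)
    (hd : AlgSt.IsClosedImm (FibCat.diag f)) (hff : f.toFunctor.Faithful)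
    (h : Spec (CommRingCat.of R) ⟶ S) :
    LiftSq.LiftsUnique (thetaOne Scheme.fppfPrecoverage R h) f := by
  haveI : IsAffine (Line R).left := inferInstanceAs (IsAffine (Spec (CommRingCat.of R[X])))
  let K := Scheme.fppfPrecoverage.{u}
  let X := Line R
  let aX := lineAction R
  let B₀ : (Theta K R h).obj := triv K aX (𝟙 X)
  have mapTriv : ∀ {W : Over (Spec (CommRingCat.of R))} (b : W ⟶ X), ∃ n : triv K aX b ⟶ B₀, n.base = b :=
    fun {W} b =>
      ⟨(quotMap K (Gm R) aX).map ((ofOverCat X).map (Over.homMk b (Category.comp_id b) : Over.mk b ⟶ Over.mk (𝟙 X))), rfl⟩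
  refine liftsUnique_of_dense h𝒳 h𝒴 hd hff _ B₀ (fun A => ?_) ?_
  · obtain ⟨n, -⟩ := mapTriv A.φ
    refine ⟨triv K aX A.φ, homOfPt A (𝟙 A.P) (Category.id_comp _), n, ?_⟩
    have hbase : ((Theta K R h).p.map (homOfPt A (𝟙 A.P) (Category.id_comp _) : triv K aX A.φ ⟶ A)).left = A.π.left :=
      congrArg CommaMorphism.left (Category.id_comp A.π)
    rw [hbase]
    haveI := π_isAffineHom A
    exact ⟨π_flat A, π_surjective A, inferInstance⟩
  · let E : Over (Spec (CommRingCat.of R)) := CoactBr.sp R (Lau R)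
    let one : E ⟶ X := CoactBr.pt (linePt (1 : Lau R))
    let a : E ⟶ X := lift (CoactBr.pt (AlgHom.id R (Lau R))) one ≫ aX.act
    have ha : a = CoactBr.pt (linePt (zPow R 1)) := by
      refine (lineAction_pt (AlgHom.id R (Lau R)) (1 : Lau R)).trans ?_
      rw [mul_one]
      rfl
    have hone : one = Over.homMk (E.hom ≫ onePt R) (by rw [Category.assoc, onePt_hom, Category.comp_id]) := by
      refine Over.OverMorphism.ext ?_
      show one.left = Spec.map (CommRingCat.ofHom (algebraMap R (Lau R))) ≫ Spec.map (CommRingCat.ofHom (lineOne R).toRingHom)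
      rw [← Spec.map_comp, ← CommRingCat.ofHom_comp, show one.left = _ from CoactBr.pt_left _]
      congr 2
      exact congrArg AlgHom.toRingHom (Polynomial.algHom_ext (by simp; rfl) :
        linePt (1 : Lau R) = (Algebra.ofId R (Lau R)).comp (lineOne R))
    let A₁ : (Theta K R h).obj := (thetaOne K R h).obj E
    obtain ⟨n, hn⟩ := mapTriv a
    refine ⟨E, triv K aX a, homOfPt (A₁ : QuotObj K (Gm R) aX)
      (lift (CoactBr.pt (AlgHom.id R (Lau R))) (𝟙 E)) ?_, n, fun {Z} q hq g hg => ?_⟩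
    · show lift (CoactBr.pt (AlgHom.id R (Lau R))) (𝟙 E) ≫ (Gm R ◁ Over.homMk (E.hom ≫ onePt R) (by rw [Category.assoc, onePt_hom, Category.comp_id])) ≫ aX.act = a
      rw [← hone, lift_whiskerLeft_assoc, Category.id_comp]
    · haveI := hq
      have hg' : g.left ≫ q.left = Spec.map (CommRingCat.ofHom (linePt (zPow R 1)).toRingHom) := by
        refine (congrArg CommaMorphism.left hg).trans ?_
        show n.base.left = _
        rw [hn, ha]
        rfl
      haveI : IsIso q.left := isIso_of_injective_factor _ (linePt_zPow_injective R) q.left g.left hg'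
      exact (isIso_iff_of_reflects_iso q (Over.forget S)).1 ‹_›

end Theta

end Groth.Agent.ThetaLift14
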